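import Cfsg.Agent.H64.Ward.Columns
import Cfsg.Agent.H84.Ward.TRows

/-!
# The columns of the Ward setting from the data on the `PSL₂` side

`IsPslSide` lists what the functions on `L ≅ PSL₂(q)` must satisfy, in the uniform notation
`Q = ± q ≡ 3 (mod 8)`, `Q = 2 h + 1`.  `cols` turns them into `H64.Ward.Cols` on the irreducible
characters of `G`.
-/

set_option autoImplicit false
set_option linter.unusedSectionVars false

namespace Cfsg.Agent.H29.Ward

open Subgroup Cfsg.Agent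
open Cfsg.Agent.H84.Ward (TData LSide tu)
open Cfsg.Agent.H64.Ward (Cols classFn dot)

universe u v

variable {G : Type u} {L : Type v} [Group G] [Group L] [Fintype G] [Fintype L]
  {J W : Type} [Fintype J] [Fintype W]

/-- Three principal functions, the defect one functions `J`, the defect zero functions `W`. -/
structure IsPslSide (X : LSide L (Fin 3 ⊕ J ⊕ W)) (Q h : ℤ) : Prop where
  g_aa : ∀ i, X.g (.inl i) (.inl i) = 2
  g_ab : ∀ i i', i ≠ i' → X.g (.inl i) (.inl i') = 1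
  g_pp : ∀ j, X.g (.inr (.inl j)) (.inr (.inl j)) = 2
  g_pq : ∀ j j', j ≠ j' → X.g (.inr (.inl j)) (.inr (.inl j')) = 0
  g_zz : ∀ w, X.g (.inr (.inr w)) (.inr (.inr w)) = 1
  g_ap : ∀ i j, X.g (.inl i) (.inr (.inl j)) = 0
  g_az : ∀ i w, X.g (.inl i) (.inr (.inr w)) = 0
  g_pz : ∀ j w, X.g (.inr (.inl j)) (.inr (.inr w)) = 0
  one_a : ∀ i, X.one (.inl i) = if i = 0 then 1 else 0
  one_p : ∀ j, X.one (.inr (.inl j)) = 0
  one_z : ∀ w, X.one (.inr (.inr w)) = 0
  c_zero : X.c (.inl 0) = 1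
  c_a : ∀ i, i ≠ 0 → X.c (.inl i) = h
  c_p : ∀ j, X.c (.inr (.inl j)) = 2 * h
  c_z : ∀ w, X.c (.inr (.inr w)) = 2 * h + 2
  S_zero : X.S (.inl 0) = Int.sign Q * (Nat.card L : ℤ) * (Q - 1)
  S_a : ∀ i, i ≠ 0 → X.S (.inl i) * (Q + 1) = Int.sign Q * (Nat.card L : ℤ) * (3 * Q - 1)
  S_p : ∀ j, X.S (.inr (.inl j)) * (Q + 1) = Int.sign Q * (Nat.card L : ℤ) * (8 * Q)
  S_z : ∀ w, X.S (.inr (.inr w)) = 0

/-- The constant `sgn(Q) |C(t)|² / |G|`. -/
noncomputable def kval (D : TData G L) (Q : ℤ) : ℚ :=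
  (Int.sign Q : ℚ) * (Nat.card (centralizer ({D.t} : Set G)) : ℚ) ^ 2 / Nat.card G

theorem kval_mul (D : TData G L) (Q : ℤ) :
    (Nat.card G : ℚ) * kval D Q = (Int.sign Q : ℚ) * (2 * (Nat.card L : ℚ)) ^ 2 := by
  have hG : (Nat.card G : ℚ) ≠ 0 := by exact_mod_cast Nat.card_pos.ne'
  rw [kval, D.card_centralizer, Nat.cast_mul, Nat.cast_ofNat]
  field_simp

variable (D : TData G L) {X : LSide L (Fin 3 ⊕ J ⊕ W)} {Q h : ℤ}

open scoped Classical in
/-- The columns of `G`. -/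
noncomputable def cols (hX : IsPslSide X Q h) (hQ : Q = 2 * h + 1) (hh : 5 ≤ h ∨ h ≤ -7)
    (hconj : ∀ u : G, u * u = 1 → u ≠ 1 → IsConj D.t u) :
    Cols (Cfsg.IrrCharacter G) J W where
  Q := Q
  h := h
  hQ := hQ
  hh := hh
  one := H36.SelfCentral.triv G
  deg χ := (Cfsg.charDegree (χ : G → ℂ) : ℤ)
  tval := D.val X
  a i := D.d X (.inl i)
  p j := D.d X (.inr (.inl j))
  z w := D.d X (.inr (.inr w))
  k := kval D Q
  deg_ne χ := by exact_mod_cast (H83.charDegree_eq χ.2).2.ne'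
  deg_one := by
    have h1 : (((H36.SelfCentral.triv G : Cfsg.IrrCharacter G) : G → ℂ) 1) = ((1 : ℕ) : ℂ) := by
      rw [Nat.cast_one]; rfl
    rw [Cfsg.charDegree, h1, Complex.natCast_re, Nat.floor_natCast, Nat.cast_one]
  a_one i := by rw [D.d_triv, hX.one_a]
  p_one j := by rw [D.d_triv, hX.one_p]
  z_one w := by rw [D.d_triv, hX.one_z]
  a_sq i := (D.d_gram X _ _).trans (by rw [hX.g_aa]; rfl)
  a_dot i i' hne := (D.d_gram X _ _).trans (by rw [hX.g_ab i i' hne]; rfl)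
  p_sq j := (D.d_gram X _ _).trans (by rw [hX.g_pp]; rfl)
  p_dot j j' hne := (D.d_gram X _ _).trans (by rw [hX.g_pq j j' hne]; rfl)
  z_sq w := (D.d_gram X _ _).trans (by rw [hX.g_zz]; rfl)
  a_p i j := (D.d_gram X _ _).trans (by rw [hX.g_ap]; rfl)
  a_z i w := (D.d_gram X _ _).trans (by rw [hX.g_az]; rfl)
  p_z j w := (D.d_gram X _ _).trans (by rw [hX.g_pz]; rfl)
  a_deg i := D.d_deg X _
  p_deg j := D.d_deg X _
  z_deg w := D.d_deg X _
  tval_eq χ := by
    rw [TData.val, Fintype.sum_sum_type, Fintype.sum_sum_type, Fin.sum_univ_three, hX.c_zero,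
      hX.c_a 1 (by decide), hX.c_a 2 (by decide)]
    simp only [hX.c_p, hX.c_z, Finset.mul_sum]
    ring
  fun_zero := by
    have hG : (Nat.card G : ℚ) ≠ 0 := by exact_mod_cast Nat.card_pos.ne'
    have h1 := D.d_structure X hconj (.inl 0)
    rw [hX.S_zero] at h1
    push_cast at h1
    refine mul_left_cancel₀ hG ?_
    rw [mul_left_comm, kval_mul]
    simp only [classFn, Int.cast_natCast]
    linear_combination h1
  fun_a i hi := by
    have hG : (Nat.card G : ℚ) ≠ 0 := by exact_mod_cast Nat.card_pos.ne'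
    have hQ1 : (Q : ℚ) + 1 ≠ 0 := by exact_mod_cast (show Q + 1 ≠ 0 by omega)
    have h1 := D.d_structure X hconj (.inl i)
    have h2 : (X.S (.inl i) : ℚ) * ((Q : ℚ) + 1) =
        (Int.sign Q : ℚ) * (Nat.card L : ℚ) * (3 * (Q : ℚ) - 1) := by exact_mod_cast hX.S_a i hi
    refine mul_left_cancel₀ hG ?_
    rw [mul_left_comm, kval_mul, div_mul_eq_mul_div, eq_div_iff hQ1]
    simp only [classFn, Int.cast_natCast]
    linear_combination ((Q : ℚ) + 1) * h1 + 4 * (Nat.card L : ℚ) * h2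
  fun_p j := by
    have hG : (Nat.card G : ℚ) ≠ 0 := by exact_mod_cast Nat.card_pos.ne'
    have hQ1 : (Q : ℚ) + 1 ≠ 0 := by exact_mod_cast (show Q + 1 ≠ 0 by omega)
    have h1 := D.d_structure X hconj (.inr (.inl j))
    have h2 : (X.S (.inr (.inl j)) : ℚ) * ((Q : ℚ) + 1) =
        (Int.sign Q : ℚ) * (Nat.card L : ℚ) * (8 * (Q : ℚ)) := by exact_mod_cast hX.S_p j
    refine mul_left_cancel₀ hG ?_
    rw [mul_left_comm, kval_mul, div_mul_eq_mul_div, eq_div_iff hQ1]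
    simp only [classFn, Int.cast_natCast]
    linear_combination ((Q : ℚ) + 1) * h1 + 4 * (Nat.card L : ℚ) * h2
  fun_z w := by
    have hG : (Nat.card G : ℚ) ≠ 0 := by exact_mod_cast Nat.card_pos.ne'
    have h1 := D.d_structure X hconj (.inr (.inr w))
    rw [hX.S_z] at h1
    refine mul_left_cancel₀ hG ?_
    simp only [classFn, Int.cast_natCast, mul_zero]
    simpa using h1

end Cfsg.Agent.H29.Ward
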