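import Cfsg.Agent.H29.Ward.Glue
import Cfsg.Agent.H29.Ward.Cols
import Cfsg.Agent.H40.Ward.Orbit
import Cfsg.Agent.H64.Ward.Main
import Cfsg.Agent.H84.Ward.Arith4
import Cfsg.Agent.H56.CTwoAb.Small

/-!
# The equations of Ward's theorem

From the setting, a frame with `w` fixed point free on the torus and the functions of the `PSL₂`
side: the main case or the pair case; the main case gives `q = 3^(2m+1)` and the order.
-/

set_option autoImplicit false
set_option linter.unusedSectionVars false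
set_option linter.style.haveILetI false

namespace Cfsg.Agent.H29.Ward

open Subgroup Cfsg Cfsg.Agent
open Cfsg.Agent.H84.Ward (TData LSide)
open Cfsg.Agent.H64.Ward (MainCase PairCase)

universe u

variable {G : Type u} [Group G] {F : Type} [Field F] [Fintype F]

local notation "P2" => Matrix.ProjectiveSpecialLinearGroup (Fin 2) F

/-- `Q = ± q ≡ 3 (mod 8)`. -/
def signedQ (F : Type) [Fintype F] : ℤ :=
  if Fintype.card F % 8 = 3 then (Fintype.card F : ℤ) else -(Fintype.card F : ℤ)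

/-- `h = (Q - 1) / 2`. -/
def signedH (F : Type) [Fintype F] : ℤ := (signedQ F - 1) / 2

theorem signedQ_natAbs : (signedQ F).natAbs = Fintype.card F := by
  rw [signedQ]; split_ifs <;> simp

theorem Hyp.signedQ_spec [Finite G] {t : G} (h : Hyp G F t) (h11 : 11 ≤ Fintype.card F) :
    signedQ F = 2 * signedH F + 1 ∧ (5 ≤ signedH F ∨ signedH F ≤ -7) := by
  have h8 := h.mod_eight
  rw [signedH, signedQ]
  split_ifs <;> omega

theorem Hyp.conj_invol [Finite G] {t : G} (h : Hyp G F t) (r : G) (hr : r * r = 1) (hr1 : r ≠ 1) :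
    IsConj t r :=
  h.isConj_invol (orderOf_eq_prime (by rw [pow_two, hr]) hr1)

/-- The values on the torus required of the functions of the `PSL₂` side. -/
structure TorusValues {L : Type*} [Group L] [Fintype L] {J W : Type} [Fintype J] [Fintype W]
    {K : Type*} [Group K] (X : LSide L (Fin 3 ⊕ J ⊕ W)) (ι : K →* L) (μ : J → (K →* ℂˣ)) :
    Prop where
  val_a : ∀ (i : Fin 3) (k : K), k ≠ 1 → X.θ (.inl i) (ι k) = if i = 0 then 0 else -2
  val_p : ∀ (l : J) (k : K), k ≠ 1 →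
    X.θ (.inr (.inl l)) (ι k) = -2 * ((μ l k : ℂ) + (μ l k : ℂ)⁻¹)
  val_z : ∀ (w : W) (k : K), k ≠ 1 → X.θ (.inr (.inr w)) (ι k) = 0
  ne_one : ∀ l, μ l ≠ 1
  inj : ∀ l l', μ l = μ l' ∨ μ l = (μ l')⁻¹ → l = l'
  surj : ∀ ν : K →* ℂˣ, ν ≠ 1 → ∃ l, μ l = ν ∨ μ l = ν⁻¹

theorem Frame.conj_invol [Finite G] {t v : G} (f : Frame G F t v) (h : Hyp G F t) (r : G)
    (hr : r * r = 1) (hr1 : r ≠ 1) : IsConj f.D.t r := by
  rw [f.dt]; exact h.conj_invol r hr hr1

theorem sign_cases {z : ℤ} (hz : z ≠ 0) : z.sign = 1 ∨ z.sign = -1 :=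
  (lt_or_gt_of_ne hz).elim (fun e => Or.inr (Int.sign_eq_neg_one_of_neg e))
    fun e => Or.inl (Int.sign_eq_one_of_pos e)

variable [Fintype G] {t v : G} {J W : Type} [Fintype J] [Fintype W]

open scoped Classical in
/-- Every discrete column lies in an orbit. -/
theorem exists_orbit (h : Hyp G F t) (h11 : 11 ≤ Fintype.card F) (f : Frame G F t v)
    (hfpf : ∀ k ∈ f.P.K, f.P.w * k * f.P.w⁻¹ = k → k = 1) [Fintype P2]
    {X : LSide P2 (Fin 3 ⊕ J ⊕ W)} (hX : IsPslSide X (signedQ F) (signedH F))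
    {μ : J → (↥f.P.K →* ℂˣ)} (hV : TorusValues X f.iota μ) (l : J) :
    ∃ (O : H64.Ward.Orbit (cols f.D hX (h.signedQ_spec h11).1 (h.signedQ_spec h11).2
      (f.conj_invol h))) (i : Fin 3), O.idx i = l :=
  f.P.exists_orbit hfpf (f.conj_invol h) f.tW_coe f.emb_iota
    f.odd_iota _ rfl (fun _ => rfl) (f.D.apply_val X) (fun i => X.θ (.inl i))
    (fun i => X.van (.inl i)) (fun _ _ => rfl) hV.val_a (fun j => X.θ (.inr (.inl j)))
    (fun j => X.van (.inr (.inl j))) (fun _ _ => rfl) μ hV.val_p hV.ne_one hV.inj hV.surj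
    (fun w => X.θ (.inr (.inr w))) (fun w => X.van (.inr (.inr w))) (fun _ _ => rfl) hV.val_z l

/-- The torus has a nontrivial character. -/
theorem nonempty_index (h : Hyp G F t) (h11 : 11 ≤ Fintype.card F) (f : Frame G F t v)
    [Fintype P2] {X : LSide P2 (Fin 3 ⊕ J ⊕ W)} {μ : J → (↥f.P.K →* ℂˣ)}
    (hV : TorusValues X f.iota μ) : Nonempty J := by
  have hK : Nat.card ↥f.P.K = Nat.card ↥f.T := (Nat.card_congr f.ι.toEquiv).symm
  have hT : 1 < Nat.card ↥f.T := by
    rcases h.mod_eight with h8 | h8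
    · have := f.card_three h8; omega
    · have := f.card_five h8; omega
  haveI : Nontrivial ↥f.P.K := Finite.one_lt_card_iff_nontrivial.1 (hK ▸ hT)
  obtain ⟨k, hk⟩ := exists_ne (1 : ↥f.P.K)
  obtain ⟨χ, hχ⟩ := CharBasic.exists_irr_ne_of_ne_one hk
  obtain ⟨ν, hν⟩ := CharInduce.IsChar.exists_hom_of_degree_one
    (CharBasic.IsIrr.isCharacter χ.2)
    (CharBasic.commutative_iff_forall_linear.1
      (fun a b => Subtype.ext (f.P.comm_K a a.2 b b.2).eq) χ)
  obtain ⟨l, -⟩ := hV.surj ν fun e => hχ (by rw [hν, hν, e]; rfl)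
  exact ⟨l⟩

open scoped Classical in
/-- The main case or the pair case. -/
theorem main_or_pair (h : Hyp G F t) (h11 : 11 ≤ Fintype.card F) (f : Frame G F t v)
    (hfpf : ∀ k ∈ f.P.K, f.P.w * k * f.P.w⁻¹ = k → k = 1) [Fintype P2]
    {X : LSide P2 (Fin 3 ⊕ J ⊕ W)} (hX : IsPslSide X (signedQ F) (signedH F))
    {μ : J → (↥f.P.K →* ℂˣ)} (hV : TorusValues X f.iota μ) :
    MainCase (signedQ F) (kval f.D (signedQ F)) ∨
      PairCase (signedQ F) (signedH F) (kval f.D (signedQ F)) :=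
  H64.Ward.Cols.main (cols f.D hX (h.signedQ_spec h11).1 (h.signedQ_spec h11).2
    (f.conj_invol h)) (nonempty_index h h11 f hV)
    (exists_orbit h h11 f hfpf hX hV)

/-- The main case gives the Ree parameters. -/
theorem ree_of_mainCase (h : Hyp G F t) (h11 : 11 ≤ Fintype.card F)
    (D : TData G P2) [Fintype P2]
    (hM : MainCase (signedQ F) (kval D (signedQ F))) :
    ∃ m : ℕ, 1 ≤ m ∧ Fintype.card F = 3 ^ (2 * m + 1) ∧
      Nat.card G = (3 ^ (2 * m + 1)) ^ 3 * ((3 ^ (2 * m + 1)) ^ 3 + 1) * (3 ^ (2 * m + 1) - 1) := by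
  obtain ⟨A, B, B', D', y, hA, hy0, hD0, hX, hB, hB', hsum, hBB, h₀, h₁, hexc, hy⟩ := hM
  obtain ⟨p, hp⟩ := CharP.exists F
  obtain ⟨a, hpp, hq⟩ := FiniteField.card F p
  have hQ0 : signedQ F ≠ 0 := fun e => by
    have := signedQ_natAbs (F := F); rw [e] at this; simp at this; omega
  have hGpos : 0 < (Nat.card G : ℤ) := by exact_mod_cast Nat.card_pos
  have hg : 0 < signedQ F * ((signedQ F).sign * (Nat.card G : ℤ)) := by
    rw [← mul_assoc, Int.mul_sign_self]
    positivity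
  have hcard : 2 * Nat.card P2 = Fintype.card F * (Fintype.card F ^ 2 - 1) :=
    H56.CTwoAb.card_psl_two_odd (by have := h.mod_eight; omega)
  have hK : (((signedQ F).sign * (Nat.card G : ℤ) : ℤ) : ℚ) * kval D (signedQ F) =
      ((signedQ F : ℚ) * ((signedQ F : ℚ) ^ 2 - 1)) ^ 2 := by
    have hc : (2 * (Nat.card P2 : ℚ)) = (Fintype.card F : ℚ) * ((Fintype.card F : ℚ) ^ 2 - 1) := by
      have : ((2 * Nat.card P2 : ℕ) : ℚ) =
          ((Fintype.card F * (Fintype.card F ^ 2 - 1) : ℕ) : ℚ) := by rw [hcard]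
      rw [Nat.cast_mul, Nat.cast_mul, Nat.cast_sub (Nat.one_le_pow _ _ (by omega))] at this
      push_cast at this
      exact this
    have hs : ((signedQ F).sign : ℚ) * (signedQ F).sign = 1 := by
      rcases sign_cases hQ0 with e | e <;> rw [e] <;> norm_num
    push_cast
    rw [mul_assoc, kval_mul, hc, ← mul_assoc, hs, one_mul]
    rw [signedQ]
    split_ifs <;> push_cast <;> ring
  obtain ⟨n, hn, hqn, hgv⟩ := H84.Ward.four_eq_ree hpp hq h11 (signedQ_natAbs (F := F)) hg hA hy0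
    hD0 hX hB hB' hsum hBB (kval D (signedQ F)) hK h₀ h₁ hexc hy
  refine ⟨n, hn, hqn, ?_⟩
  rw [← hqn]
  have hq1 : 1 ≤ Fintype.card F := by omega
  have hpos : (0 : ℤ) < (Fintype.card F : ℤ) ^ 3 * ((Fintype.card F : ℤ) ^ 3 + 1) *
      ((Fintype.card F : ℤ) - 1) := by
    have : (1 : ℤ) < Fintype.card F := by omega
    positivity
  rcases sign_cases hQ0 with e | e <;> rw [e] at hgv
  · rw [one_mul] at hgv
    have : ((Nat.card G : ℕ) : ℤ) = ((Fintype.card F ^ 3 * (Fintype.card F ^ 3 + 1) *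
        (Fintype.card F - 1) : ℕ) : ℤ) := by
      rw [hgv, Nat.cast_mul, Nat.cast_mul, Nat.cast_sub hq1]; push_cast; ring
    exact_mod_cast this
  · omega

end Cfsg.Agent.H29.Ward
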