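import Cfsg.Agent.H29.Ward.Pair
import Cfsg.Agent.H84.Ward.TSection

/-!
# The torus pair and the `t`-section functions in one frame

The torus `K = O(C(⟨t, v⟩))` is the image of the odd part `T` of a torus of the second factor of `C(t)`
(interface for `H40.Ward.TorusSection`).
-/

set_option autoImplicit false
set_option linter.unusedSectionVars false

namespace Cfsg.Agent.H29.Ward

open Subgroup Cfsg Cfsg.Agent Cfsg.Agent.Linear.Dickson
open Cfsg.Agent.H40.Ward (TorusPair)
open Cfsg.Agent.H84.Ward (TData tu)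

universe u

/-- A torus pair through `t` and `v` together with the section data of `t`. -/
structure Frame (G : Type u) [Group G] (F : Type) [Field F] [Fintype F] (t v : G) where
  /-- the torus pair -/
  P : TorusPair G
  /-- the section data -/
  D : TData G (Matrix.ProjectiveSpecialLinearGroup (Fin 2) F)
  /-- the image of `v` in the second factor -/
  vb : Matrix.ProjectiveSpecialLinearGroup (Fin 2) F
  /-- the odd part of the torus of `vb` -/
  T : Subgroup (Matrix.ProjectiveSpecialLinearGroup (Fin 2) F)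
  /-- the torus seen in `G` -/
  ι : ↥T ≃* ↥P.K
  dt : D.t = t
  W_eq : P.W = fourW t v
  K_eq : P.K = torusK t v
  rot_t : P.w * t * P.w⁻¹ = v
  rot_v : P.w * v * P.w⁻¹ = t * v
  w_odd : Odd (orderOf P.w)
  vb_ne : vb ≠ 1
  vb_sq : vb * vb = 1
  T_le : T ≤ cen vb
  T_cyclic : IsCyclic ↥T
  T_odd : Odd (Nat.card ↥T)
  mem_T : ∀ y, y ∈ T ↔ y ∈ cen vb ∧ Odd (orderOf y)
  cen_cases : ∀ g ∈ cen vb, g ∈ T ∨ vb * g ∈ T
  card_three : Fintype.card F % 8 = 3 → 4 * Nat.card T = Fintype.card F + 1
  card_five : Fintype.card F % 8 = 5 → 4 * Nat.card T + 1 = Fintype.card F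
  ι_emb : ∀ k : ↥T, (ι k : G) = D.emb (1, k)

/-- A frame exists for each four group through `t`. -/
theorem Hyp.exists_frame {G : Type u} [Group G] [Finite G] {F : Type} [Field F] [Fintype F]
    {t : G} (h : Hyp G F t) {v : G} (hv : v * v = 1) (hv1 : v ≠ 1) (hvt : Commute v t)
    (hne : v ≠ t) : Nonempty (Frame G F t v) := by
  obtain ⟨P, hW, hK, hwt, hwv, hwo⟩ := h.exists_torusPair hv hv1 hvt hne
  obtain ⟨e, vb, T, hvb1, hvb, -, hle, hcyc, hodd, hmem, hdec, h3, h5, hKT⟩ :=
    h.exists_model hv hv1 hvt hne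
  have et : ((e.symm (tu, 1) : ↥(centralizer ({t} : Set G))) : G) = t := by
    obtain ⟨ht2, ht1⟩ := h.apply_self e
    have e1 : e.symm (tu, 1) = (⟨t, mem_centralizer_singleton_iff.2 rfl⟩ :
        ↥(centralizer ({t} : Set G))) := by
      apply e.injective
      rw [MulEquiv.apply_symm_apply]
      exact Prod.ext ht1.symm ht2.symm
    rw [e1]
  set ψ := (centralizer ({t} : Set G)).subtype.comp
        (e.symm.toMonoidHom.comp (MonoidHom.inr (Multiplicative (ZMod 2))
          (Matrix.ProjectiveSpecialLinearGroup (Fin 2) F)))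
  have hψ : Function.Injective ψ := fun a b hab =>
    congrArg Prod.snd (e.symm.injective (Subtype.ext hab))
  exact ⟨{
    P := P
    D := ⟨t, e, et⟩
    vb := vb
    T := T
    ι := (T.equivMapOfInjective ψ hψ).trans (MulEquiv.subgroupCongr (hKT.symm.trans hK.symm))
    dt := rfl
    W_eq := hW
    K_eq := hK
    rot_t := hwt
    rot_v := hwv
    w_odd := hwo
    vb_ne := hvb1
    vb_sq := hvb
    T_le := hle
    T_cyclic := hcyc
    T_odd := hodd
    mem_T := hmem
    cen_cases := hdec
    card_three := h3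
    card_five := h5
    ι_emb := fun k => rfl }⟩

namespace Frame

variable {G : Type u} [Group G] {F : Type} [Field F] [Fintype F] {t v : G}
  (f : Frame G F t v)

local notation "P2" => Matrix.ProjectiveSpecialLinearGroup (Fin 2) F

/-- `t` as an element of `W`. -/
def tW : ↥f.P.W := ⟨t, by rw [f.W_eq]; exact subset_closure (Or.inl rfl)⟩

theorem tW_ne_one : f.tW ≠ 1 := fun e => f.D.t_ne_one (f.dt.trans (congrArg Subtype.val e))

theorem odd_T (a : ↥f.T) : Odd (orderOf (a : P2)) := ((f.mem_T a).1 a.2).2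

/-- The torus in the second factor, as a homomorphism on `K`. -/
def iota : ↥f.P.K →* P2 := f.T.subtype.comp f.ι.symm.toMonoidHom

theorem emb_iota (k : ↥f.P.K) : f.D.emb (1, f.iota k) = (k : G) := by
  show f.D.emb (1, (f.ι.symm k : P2)) = (k : G)
  rw [← f.ι_emb, MulEquiv.apply_symm_apply]

theorem odd_iota (k : ↥f.P.K) : Odd (orderOf (f.iota k)) := f.odd_T _

theorem iota_eq_one_iff (k : ↥f.P.K) : f.iota k = 1 ↔ k = 1 := by
  refine ⟨fun h => ?_, fun h => by rw [h, map_one]⟩
  exact f.ι.symm.injective (Subtype.ext (h.trans (by rw [map_one, OneMemClass.coe_one])))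

theorem tW_coe : (f.tW : G) = f.D.t := f.dt.symm

end Frame

end Cfsg.Agent.H29.Ward
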