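import Cfsg.Agent.H29.Ward.Rotor
import Cfsg.Agent.H40.Ward.TorusPair
import Mathlib.GroupTheory.NoncommCoprod

/-!
# The torus pair of a four group in the setting of Ward's theorem

`W = ⟨t, v⟩`, `K = O(C(W))`, a rotor `w`, an involution `u` inverting `K`; the centraliser of a
point of `K` moved by `w` is `W K`.
-/

set_option autoImplicit false
set_option linter.unusedSectionVars false
set_option linter.style.haveILetI false

namespace Cfsg.Agent.H29.Ward

open Subgroup Cfsg.Agent Cfsg.Agent.Linear.Dickson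

universe u

namespace TorusCfg

variable {M : Type u} [Group M] [Finite M] {W K : Subgroup M} (h : TorusCfg W K)
include h

/-- Outside `W K` some element normalises `W`, unless `M = W K`. -/
theorem exists_normalizer (hne : W ⊔ K ≠ ⊤) :
    ∃ r ∈ normalizer (W : Set M), r ∉ W ⊔ K := by
  haveI : Fact (Nat.Prime 2) := ⟨Nat.prime_two⟩
  by_contra hc
  push Not at hc
  haveI := h.klein
  obtain ⟨P, hP⟩ := h.exists_sylow
  haveI : IsMulCommutative ↥(P : Subgroup M) := hP ▸ IsKleinFour.isMulCommutative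
  obtain ⟨R, C, hC, hCR⟩ := Fusion.hasNormalPComplement_of_abelian P fun g hg _ x hx => by
    replace hg : g ∈ normalizer ((P : Subgroup M) : Set M) := hg
    replace hx : x ∈ (P : Subgroup M) := hx
    rw [hP] at hg hx
    have := hc g hg
    rw [← h.centralizer_four] at this
    exact this x hx
  haveI := hC
  have h1 := R.not_dvd_index
  rw [hCR.index_eq_card] at h1
  have hodd : Odd (Nat.card ↥C) := Nat.odd_iff.2 (Nat.two_dvd_ne_zero.1 h1)
  have hcard : Nat.card ↥(R : Subgroup M) = 4 := by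
    rw [R.card_eq_multiplicity, ← P.card_eq_multiplicity, hP, IsKleinFour.card_four]
  have hmul : Nat.card ↥C * 4 = Nat.card M := by
    rw [← hCR.card_mul, hcard, mul_comm]
  have hcop : Nat.Coprime (Nat.card ↥C) (Nat.card ↥W) := by
    rw [IsKleinFour.card_four (G := ↥W)]
    exact Nat.Coprime.pow_right 2 (Nat.coprime_two_right.2 hodd)
  have hcompl := isComplement'_of_coprime (H := C) (K := W)
    (by rw [IsKleinFour.card_four (G := ↥W)]; exact hmul) hcop
  refine hne (top_le_iff.1 ?_)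
  rw [← hcompl.sup_eq_top]
  exact sup_le ((h.le_of_normal_odd C hodd).trans le_sup_right) le_sup_left

end TorusCfg

variable {G : Type u} [Group G]

namespace Hyp

variable [Finite G] {F : Type} [Field F] [Fintype F] {t : G}
variable (h : Hyp G F t)
include h

local notation "P2" => Matrix.ProjectiveSpecialLinearGroup (Fin 2) F

theorem commute_four_torusK {v : G} (hv : v * v = 1) (hv1 : v ≠ 1) (hvt : Commute v t)
    (hne : v ≠ t) {x k : G} (hx : x ∈ fourW t v) (hk : k ∈ torusK t v) : Commute x k := by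
  obtain ⟨-, -, hcen, -, -⟩ := h.torusK_facts hv hv1 hvt hne
  have hkc := mem_centralizer_pair.1 (hcen hk)
  have : fourW t v ≤ centralizer ({k} : Set G) := (closure_le _).2 (by
    rintro y (rfl | rfl)
    · exact mem_centralizer_singleton_iff.2 hkc.1.eq.symm
    · exact mem_centralizer_singleton_iff.2 hkc.2.eq.symm)
  exact mem_centralizer_singleton_iff.1 (this hx)

/-- `W K` consists of products. -/
theorem exists_mul_of_mem_sup {v : G} (hv : v * v = 1) (hv1 : v ≠ 1) (hvt : Commute v t)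
    (hne : v ≠ t) {g : G} (hg : g ∈ fourW t v ⊔ torusK t v) :
    ∃ s ∈ fourW t v, ∃ k ∈ torusK t v, g = s * k := by
  let f : ↥(fourW t v) × ↥(torusK t v) →* G := (fourW t v).subtype.noncommCoprod
    (torusK t v).subtype fun x k => h.commute_four_torusK hv hv1 hvt hne x.2 k.2
  have hr : f.range = fourW t v ⊔ torusK t v := by
    rw [MonoidHom.noncommCoprod_range, range_subtype, range_subtype]
  rw [← hr] at hg
  obtain ⟨⟨x, k⟩, rfl⟩ := hg
  exact ⟨x, x.2, k, k.2, rfl⟩

theorem mul_self_four {v : G} (hv : v * v = 1) (hv1 : v ≠ 1) (hvt : Commute v t) (hne : v ≠ t)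
    {x : G} (hx : x ∈ fourW t v) : x * x = 1 := by
  haveI := isKleinFour_fourW h.mul_self hv hvt.symm h.ne_one hv1 (Ne.symm hne)
  exact congrArg Subtype.val (IsKleinFour.mul_self (⟨x, hx⟩ : ↥(fourW t v)))

/-- The involutions of `W K` lie in `W`. -/
theorem mem_four_of_sq {v : G} (hv : v * v = 1) (hv1 : v ≠ 1) (hvt : Commute v t) (hne : v ≠ t)
    {g : G} (hg : g ∈ fourW t v ⊔ torusK t v) (h2 : g * g = 1) : g ∈ fourW t v := by
  obtain ⟨-, hodd, -, -, -⟩ := h.torusK_facts hv hv1 hvt hne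
  obtain ⟨s, hs, k, hk, rfl⟩ := h.exists_mul_of_mem_sup hv hv1 hvt hne hg
  have hkk : k * k = 1 := by
    have e := (h.commute_four_torusK hv hv1 hvt hne hs hk).mul_pow 2
    rw [pow_two, pow_two, pow_two, h2, h.mul_self_four hv hv1 hvt hne hs, one_mul] at e
    exact e.symm
  rw [H29.Walter.coprime_two_of_odd (Odd.of_dvd_nat hodd (orderOf_dvd_natCard _ hk)) hkk, mul_one]
  exact hs

/-- `C(W) = W K ∪ u W K`. -/
theorem centralizer_pair_cases {v : G} (hv : v * v = 1) (hv1 : v ≠ 1) (hvt : Commute v t)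
    (hne : v ≠ t) {u : G} (hu2 : u * u = 1) (hut : Commute u t) (huv : Commute u v)
    (huW : u ∉ fourW t v) {g : G} (hg : g ∈ centralizer ({t, v} : Set G)) :
    g ∈ fourW t v ⊔ torusK t v ∨ u * g ∈ fourW t v ⊔ torusK t v := by
  obtain ⟨e, vb, T, hvb1, hvb, hvbe, -, -, -, -, hdec, -, -, hK⟩ := h.exists_model hv hv1 hvt hne
  obtain ⟨ht2, ht1⟩ := h.apply_self e
  set vc : centralizer ({t} : Set G) := ⟨v, mem_centralizer_singleton_iff.2 hvt.eq⟩
  set tc : centralizer ({t} : Set G) := ⟨t, mem_centralizer_singleton_iff.2 rfl⟩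
  have htW : t ∈ fourW t v := subset_closure (Or.inl rfl)
  have hvW : v ∈ fourW t v := subset_closure (Or.inr rfl)
  have hz : ∀ z : Multiplicative (ZMod 2), ((e.symm (z, 1) : centralizer ({t} : Set G)) : G) ∈
      fourW t v := fun z => by
    rcases zmod_two_cases z with rfl | rfl
    · rw [show ((1 : Multiplicative (ZMod 2)), (1 : P2)) = 1 from rfl, map_one]; exact one_mem _
    · have : e.symm (Multiplicative.ofAdd 1, 1) = tc := by
        apply e.injective; rw [MulEquiv.apply_symm_apply]; exact Prod.ext ht1.symm ht2.symm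
      rw [this]; exact htW
  have hmem : ∀ gc : centralizer ({t} : Set G), (e gc).2 ∈ cen vb →
      (gc : G) ∈ fourW t v ⊔ torusK t v := by
    intro gc hgc
    have hTK : ∀ k ∈ T, ((e.symm (1, k) : centralizer ({t} : Set G)) : G) ∈ torusK t v :=
      fun k hk => by rw [hK]; exact ⟨k, hk, rfl⟩
    rcases hdec _ hgc with hT | hT
    · have : gc = e.symm ((e gc).1, 1) * e.symm (1, (e gc).2) := e.injective (by
        rw [map_mul, MulEquiv.apply_symm_apply, MulEquiv.apply_symm_apply]
        exact Prod.ext (mul_one _).symm (one_mul _).symm)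
      rw [this]
      exact mul_mem (mem_sup_left (hz _)) (mem_sup_right (hTK _ hT))
    · have : gc = e.symm ((e gc).1 * (e vc).1⁻¹, 1) * vc * e.symm (1, vb * (e gc).2) :=
        e.injective (by
          rw [map_mul, map_mul, MulEquiv.apply_symm_apply, MulEquiv.apply_symm_apply]
          refine Prod.ext ?_ ?_
          · show (e gc).1 = (e gc).1 * (e vc).1⁻¹ * (e vc).1 * 1
            rw [inv_mul_cancel_right, mul_one]
          · show (e gc).2 = 1 * (e vc).2 * (vb * (e gc).2)
            rw [one_mul, hvbe, ← mul_assoc, hvb, one_mul])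
      rw [this]
      exact mul_mem (mem_sup_left (mul_mem (hz _) hvW)) (mem_sup_right (hTK _ hT))
  obtain ⟨hgt, hgv⟩ := mem_centralizer_pair.1 hg
  set gc : centralizer ({t} : Set G) := ⟨g, mem_centralizer_singleton_iff.2 hgt.eq⟩
  set uc : centralizer ({t} : Set G) := ⟨u, mem_centralizer_singleton_iff.2 hut.eq⟩ with huc
  have hcomm : ∀ x : centralizer ({t} : Set G), Commute (x : G) v → Commute (e x).2 vb := by
    intro x hx
    have h4 : x * vc = vc * x := Subtype.ext hx.eq
    have := congrArg (fun z => (e z).2) h4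
    rw [← hvbe]
    show (e x).2 * (e vc).2 = (e vc).2 * (e x).2
    simpa using this
  by_cases hgc : (e gc).2 ∈ cen vb
  · exact Or.inl (hmem gc hgc)
  refine Or.inr (hmem (uc * gc) ?_)
  have hu' : (e uc).2 ∉ cen vb := fun hh =>
    huW (h.mem_four_of_sq hv hv1 hvt hne (hmem uc hh) hu2)
  rw [map_mul, Prod.snd_mul]
  exact inverter_mul_mem (H88.Walter.PSL.not_isUni h.odd hvb1 hvb)
    (Psl.conj_iff_of_commute (hcomm uc huv)) (Psl.conj_iff_of_commute (hcomm gc hgv)) hu' hgc

/-- Modulo a power of the rotor, an element normalising `W` centralises it. -/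
theorem normalizer_four_cases {v w : G} (hv : v * v = 1) (hv1 : v ≠ 1) (hvt : Commute v t)
    (hne : v ≠ t) (hwt : w * t * w⁻¹ = v) (hwv : w * v * w⁻¹ = t * v)
    (hwN : ∀ x ∈ fourW t v, w⁻¹ * x * w ∈ fourW t v) {g : G}
    (hg : ∀ x ∈ fourW t v, g * x * g⁻¹ ∈ fourW t v) :
    ∃ i < 3, (w ^ i)⁻¹ * g ∈ centralizer ({t, v} : Set G) := by
  have htW : t ∈ fourW t v := subset_closure (Or.inl rfl)
  have hvW : v ∈ fourW t v := subset_closure (Or.inr rfl)
  have key : ∀ (h' : G), h' * t * h'⁻¹ = t → h' * v * h'⁻¹ ∈ fourW t v →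
      h' ∈ centralizer ({t, v} : Set G) := by
    intro h' h1 h2
    have hh : Commute h' t := mul_inv_eq_iff_eq_mul.1 h1
    refine mem_centralizer_pair.2 ⟨hh, ?_⟩
    rcases H29.Walter.mem_closure_pair_cases h.mul_self hv hvt.symm h2 with e0 | e0 | e0 | e0
    · exact absurd (conj_eq_one_iff.1 e0) hv1
    · exact absurd (mul_left_cancel (mul_right_cancel (e0.trans h1.symm))) hne
    · exact mul_inv_eq_iff_eq_mul.1 e0
    · exfalso
      obtain ⟨e⟩ := h.iso
      obtain ⟨-, ht1⟩ := h.apply_self e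
      set vc : centralizer ({t} : Set G) := ⟨v, mem_centralizer_singleton_iff.2 hvt.eq⟩
      set hc : centralizer ({t} : Set G) := ⟨h', mem_centralizer_singleton_iff.2 hh.eq⟩
      set tc : centralizer ({t} : Set G) := ⟨t, mem_centralizer_singleton_iff.2 rfl⟩
      have h4 : hc * vc * hc⁻¹ = tc * vc := Subtype.ext e0
      have h5 := congrArg (fun z => (e z).1) h4
      simp only [map_mul, map_inv, Prod.fst_mul, Prod.fst_inv, ht1] at h5
      rw [mul_comm (e hc).1, mul_inv_cancel_right] at h5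
      exact zmod_two_ne_one (mul_right_cancel (h5.symm.trans (one_mul _).symm))
  have hpow : ∀ i : ℕ, w ^ i * t * (w ^ i)⁻¹ = g * t * g⁻¹ →
      (∀ x ∈ fourW t v, (w ^ i)⁻¹ * x * w ^ i ∈ fourW t v) →
      (w ^ i)⁻¹ * g ∈ centralizer ({t, v} : Set G) := by
    intro i hi hiN
    refine key _ ?_ ?_
    · calc (w ^ i)⁻¹ * g * t * ((w ^ i)⁻¹ * g)⁻¹ = (w ^ i)⁻¹ * (g * t * g⁻¹) * w ^ i := by group
        _ = t := by rw [← hi]; group
    · have := hiN _ (hg v hvW)
      rwa [show (w ^ i)⁻¹ * g * v * ((w ^ i)⁻¹ * g)⁻¹ = (w ^ i)⁻¹ * (g * v * g⁻¹) * w ^ i by group]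
  rcases H29.Walter.mem_closure_pair_cases h.mul_self hv hvt.symm (hg t htW) with e | e | e | e
  · exact absurd (conj_eq_one_iff.1 e) h.ne_one
  · exact ⟨0, by norm_num, hpow 0 (by simp [e]) (fun x hx => by simpa using hx)⟩
  · exact ⟨1, by norm_num, hpow 1 (by rw [pow_one, hwt, e]) (fun x hx => by
      rw [pow_one]; exact hwN x hx)⟩
  · refine ⟨2, by norm_num, hpow 2 ?_ fun x hx => ?_⟩
    · rw [e, pow_two, show w * w * t * (w * w)⁻¹ = w * (w * t * w⁻¹) * w⁻¹ by group, hwt, hwv]
    · have := hwN _ (hwN x hx)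
      rwa [pow_two, show (w * w)⁻¹ * x * (w * w) = w⁻¹ * (w⁻¹ * x * w) * w by group]

/-- **The torus pair of a four group through `t`.** -/
theorem exists_torusPair {v : G} (hv : v * v = 1) (hv1 : v ≠ 1) (hvt : Commute v t) (hne : v ≠ t) :
    ∃ P : H40.Ward.TorusPair G, P.W = fourW t v ∧ P.K = torusK t v ∧
      P.w * t * P.w⁻¹ = v ∧ P.w * v * P.w⁻¹ = t * v ∧ Odd (orderOf P.w) := by
  haveI hkl := isKleinFour_fourW h.mul_self hv hvt.symm h.ne_one hv1 (Ne.symm hne)
  obtain ⟨hcyc, hodd, hcen, -, -⟩ := h.torusK_facts hv hv1 hvt hne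
  obtain ⟨w, hwo, hwt, hwv⟩ := h.exists_rotor hv hv1 hvt hne
  obtain ⟨u, hu2, hut, huv, huW, huK⟩ := h.exists_inverter hv hv1 hvt hne
  have htW : t ∈ fourW t v := subset_closure (Or.inl rfl)
  have hvW : v ∈ fourW t v := subset_closure (Or.inr rfl)
  have hwtv : w * (t * v) * w⁻¹ = t := by
    rw [show w * (t * v) * w⁻¹ = w * t * w⁻¹ * (w * v * w⁻¹) by group, hwt, hwv, ← mul_assoc,
      hvt.eq, mul_assoc, hv, mul_one]
  have hwW : ∀ x ∈ fourW t v, w * x * w⁻¹ ∈ fourW t v := fun x hx => by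
    rcases H29.Walter.mem_closure_pair_cases h.mul_self hv hvt.symm hx with rfl | rfl | rfl | rfl
    · rw [mul_one, mul_inv_cancel]; exact one_mem _
    · rw [hwt]; exact hvW
    · rw [hwv]; exact mul_mem htW hvW
    · rw [hwtv]; exact htW
  have hwN : ∀ x ∈ fourW t v, w⁻¹ * x * w ∈ fourW t v := fun x hx => by
    rcases H29.Walter.mem_closure_pair_cases h.mul_self hv hvt.symm hx with rfl | rfl | rfl | rfl
    · rw [mul_one, inv_mul_cancel]; exact one_mem _
    · have e := congrArg (fun z => w⁻¹ * z * w) hwtv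
      simp only [show w⁻¹ * (w * (x * v) * w⁻¹) * w = x * v by group] at e
      rw [← e]
      exact mul_mem htW hvW
    · have e := congrArg (fun z => w⁻¹ * z * w) hwt
      simp only [show w⁻¹ * (w * t * w⁻¹) * w = t by group] at e
      rw [← e]
      exact htW
    · have e := congrArg (fun z => w⁻¹ * z * w) hwv
      simp only [show w⁻¹ * (w * v * w⁻¹) * w = v by group] at e
      rw [← e]
      exact hvW
  have hfpf : ∀ x ∈ fourW t v, w * x * w⁻¹ = x → x = 1 := fun x hx e => by
    have htv : t * v ≠ v := fun e0 => h.ne_one (mul_right_cancel (e0.trans (one_mul v).symm))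
    rcases H29.Walter.mem_closure_pair_cases h.mul_self hv hvt.symm hx with rfl | rfl | rfl | rfl
    · rfl
    · exact absurd (hwt.symm.trans e) hne
    · exact absurd (hwv.symm.trans e) htv
    · exact absurd (hwtv.symm.trans e) fun e0 => hv1 (mul_left_cancel (e0.symm.trans (mul_one t).symm))
  have hwC : ∀ x ∈ centralizer ({t, v} : Set G), w * x * w⁻¹ ∈ centralizer ({t, v} : Set G) := by
    intro x hx
    obtain ⟨h1, h2⟩ := mem_centralizer_pair.1 hx
    refine mem_centralizer_pair.2 ⟨?_, ?_⟩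
    · have := (h1.mul_right h2).map (MulAut.conj w)
      simp only [MulAut.conj_apply, hwtv] at this
      exact this
    · have := h1.map (MulAut.conj w)
      simp only [MulAut.conj_apply, hwt] at this
      exact this
  have hwK : ∀ k ∈ torusK t v, w * k * w⁻¹ ∈ torusK t v := by
    have : torusK t v ≤ (torusK t v).comap (MulAut.conj w).toMonoidHom := (closure_le _).2 (by
      rintro x ⟨hx, hxo⟩
      refine subset_closure ⟨hwC x hx, ?_⟩
      show Odd (orderOf (w * x * w⁻¹))
      rwa [H26.orderOf_conj_eq])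
    exact fun k hk => this hk
  have hw3 : w ^ 3 ∈ torusK t v := by
    refine subset_closure ⟨mem_centralizer_pair.2 ⟨?_, ?_⟩, Odd.of_dvd_nat hwo (orderOf_pow_dvd 3)⟩
    · refine mul_inv_eq_iff_eq_mul.1 ?_
      rw [show w ^ 3 * t * (w ^ 3)⁻¹ = w * (w * (w * t * w⁻¹) * w⁻¹) * w⁻¹ by
        simp only [pow_succ, pow_zero, one_mul]; group, hwt, hwv, hwtv]
    · refine mul_inv_eq_iff_eq_mul.1 ?_
      rw [show w ^ 3 * v * (w ^ 3)⁻¹ = w * (w * (w * v * w⁻¹) * w⁻¹) * w⁻¹ by
        simp only [pow_succ, pow_zero, one_mul]; group, hwv, hwtv, hwt]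
  haveI := hcyc
  have hKc : ∀ a ∈ torusK t v, ∀ b ∈ torusK t v, Commute a b := by
    letI := IsCyclic.commGroup (α := ↥(torusK t v))
    exact fun a ha b hb => congrArg Subtype.val (mul_comm (⟨a, ha⟩ : ↥(torusK t v)) ⟨b, hb⟩)
  have huWfix : ∀ x ∈ fourW t v, u * x * u⁻¹ = x := fun x hx => by
    have hle : fourW t v ≤ centralizer ({u} : Set G) := (closure_le _).2 (by
      rintro y (rfl | rfl)
      · exact mem_centralizer_singleton_iff.2 hut.eq.symm
      · exact mem_centralizer_singleton_iff.2 huv.eq.symm)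
    exact mul_inv_eq_iff_eq_mul.2 (mem_centralizer_singleton_iff.1 (hle hx)).symm
  have hcentK : ∀ k ∈ torusK t v, w * k * w⁻¹ ≠ k →
      centralizer ({k} : Set G) ≤ fourW t v ⊔ torusK t v := by
    intro k hk hmove
    have hk1 : k ≠ 1 := fun e => hmove (by rw [e, mul_one, mul_inv_cancel])
    set M := centralizer ({k} : Set G) with hM
    have cfg := h.torusCfg hv hv1 hvt hne hk hk1
    by_contra hle
    have hWM : fourW t v ≤ M := fun s hs =>
      mem_centralizer_singleton_iff.2 (h.commute_four_torusK hv hv1 hvt hne hs hk).eq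
    have hKM : torusK t v ≤ M := fun b hb =>
      mem_centralizer_singleton_iff.2 (hKc b hb k hk).eq
    have hne' : (fourW t v).subgroupOf M ⊔ (torusK t v).subgroupOf M ≠ ⊤ := fun e => hle (by
      intro x hx
      have h1 : (⟨x, hx⟩ : ↥M) ∈ (fourW t v).subgroupOf M ⊔ (torusK t v).subgroupOf M :=
        e ▸ mem_top _
      rw [← subgroupOf_sup hWM hKM] at h1
      exact h1)
    obtain ⟨r, hr, hrT⟩ := cfg.exists_normalizer hne'
    have hrW : ∀ x ∈ fourW t v, (r : G) * x * (r : G)⁻¹ ∈ fourW t v := fun x hx =>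
      (mem_normalizer_iff.1 hr ⟨x, hWM hx⟩).1 hx
    obtain ⟨i, hi, hic⟩ := h.normalizer_four_cases hv hv1 hvt hne hwt hwv hwN hrW
    set c := (w ^ i)⁻¹ * (r : G) with hc
    have hrk : Commute (r : G) k := mem_centralizer_singleton_iff.1 r.2
    have hsup : ∀ a ∈ fourW t v ⊔ torusK t v, a * k * a⁻¹ = k := fun a ha => by
      obtain ⟨s, hs, b, hb, rfl⟩ := h.exists_mul_of_mem_sup hv hv1 hvt hne ha
      exact mul_inv_eq_iff_eq_mul.2
        ((h.commute_four_torusK hv hv1 hvt hne hs hk).mul_left (hKc b hb k hk)).eq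
    have hck : (c * k * c⁻¹ = k ∧ c ∈ fourW t v ⊔ torusK t v) ∨ c * k * c⁻¹ = k⁻¹ := by
      rcases h.centralizer_pair_cases hv hv1 hvt hne hu2 hut huv huW hic with h1 | h1
      · exact Or.inl ⟨hsup c h1, h1⟩
      · right
        calc c * k * c⁻¹ = u⁻¹ * (u * c * k * (u * c)⁻¹) * u := by group
          _ = k⁻¹ := by
            rw [hsup _ h1, inv_eq_of_mul_eq_one_right hu2, ← huK k hk,
              inv_eq_of_mul_eq_one_right hu2]
    have hwck : w ^ i * (c * k * c⁻¹) * (w ^ i)⁻¹ = k := by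
      rw [show w ^ i * (c * k * c⁻¹) * (w ^ i)⁻¹ = (w ^ i * c) * k * (w ^ i * c)⁻¹ by group, hc,
        mul_inv_cancel_left]
      exact mul_inv_eq_iff_eq_mul.2 hrk.eq
    rcases Nat.eq_zero_or_pos i with rfl | hipos
    · have hcr : c = r := by rw [hc, pow_zero, inv_one, one_mul]
      rcases hck with ⟨-, h1⟩ | h1
      · refine hrT ?_
        rw [← subgroupOf_sup hWM hKM]
        exact mem_subgroupOf.2 (hcr ▸ h1)
      · rw [pow_zero, inv_one, mul_one, one_mul, h1] at hwck
        exact hk1 (H29.Walter.coprime_two_of_odd (Odd.of_dvd_nat hodd (orderOf_dvd_natCard _ hk))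
          (inv_eq_iff_mul_eq_one.1 hwck))
    -- `w ^ 2 i` fixes `k`
    have hwi : Commute (w ^ i * w ^ i) k := by
      have h1 : w ^ i * k * (w ^ i)⁻¹ = k ∨ w ^ i * k * (w ^ i)⁻¹ = k⁻¹ := by
        rcases hck with ⟨e, -⟩ | e <;> rw [e] at hwck
        · exact Or.inl hwck
        · right
          have := congrArg (fun z => z⁻¹) hwck
          simpa [mul_assoc] using this
      refine mul_inv_eq_iff_eq_mul.1 ?_
      rw [show w ^ i * w ^ i * k * (w ^ i * w ^ i)⁻¹ =
        w ^ i * (w ^ i * k * (w ^ i)⁻¹) * (w ^ i)⁻¹ by group]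
      rcases h1 with e | e
      · rw [e, e]
      · rw [e, ← conj_inv, e, inv_inv]
    have hw3k : Commute (w ^ 3) k := hKc _ hw3 k hk
    refine hmove (mul_inv_eq_iff_eq_mul.2 (?_ : Commute w k).eq)
    rw [← pow_add] at hwi
    interval_cases i
    · have := hw3k.symm.mul_right hwi.inv_left.symm
      rw [show w ^ 3 * (w ^ (1 + 1))⁻¹ = w by group] at this
      exact this.symm
    · have := hwi.symm.mul_right hw3k.inv_left.symm
      rw [show w ^ (2 + 2) * (w ^ 3)⁻¹ = w by group] at this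
      exact this.symm
  refine ⟨{
      W := fourW t v
      K := torusK t v
      w := w
      u := u
      klein := hkl
      odd := hodd
      comm_K := hKc
      comm := fun x hx k hk => h.commute_four_torusK hv hv1 hvt hne hx hk
      w_W := hwW
      w_K := hwK
      w_cube := mem_sup_right hw3
      w_fpf := hfpf
      u_sq := hu2
      u_W := huWfix
      u_K := huK
      cent := hcentK
      normaliser := ?_ }, rfl, rfl, hwt, hwv, hwo⟩
  intro g hg
  have hgW : ∀ x ∈ fourW t v, g * x * g⁻¹ ∈ fourW t v := fun x hx =>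
    h.mem_four_of_sq hv hv1 hvt hne ((hg x).1 (mem_sup_left hx)) (by
      rw [show g * x * g⁻¹ * (g * x * g⁻¹) = g * (x * x) * g⁻¹ by group,
        h.mul_self_four hv hv1 hvt hne hx, mul_one, mul_inv_cancel])
  obtain ⟨i, hi, hic⟩ := h.normalizer_four_cases hv hv1 hvt hne hwt hwv hwN hgW
  rcases h.centralizer_pair_cases hv hv1 hvt hne hu2 hut huv huW hic with h1 | h1
  · exact ⟨i, hi, 0, by norm_num, by rwa [pow_zero, mul_one]⟩
  · refine ⟨i, hi, 1, by norm_num, ?_⟩
    rwa [pow_one, mul_inv_rev, inv_eq_of_mul_eq_one_right hu2, mul_assoc]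

end Hyp

end Cfsg.Agent.H29.Ward
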