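import Cfsg.Agent.H64.Ward.Main

/-!
# The row of `H₁` on the principal rows in the pair case

`r` of norm seven, one at the trivial character, with products `0, -3, -3` with the principal
columns and orthogonal to the three `H` of an orbit is `1` at `A` and `-1` at `B'`.
-/

set_option autoImplicit false
set_option linter.unusedSectionVars false

namespace Cfsg.Agent.H29.Ward

open Finset
open Cfsg.Agent.H64.Ward (Cols Orbit Normal Eight IsSign dot sum_sq_le abs_le_one)

/-- The seven remaining entries of `r`. -/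
theorem row_solve {a b b' c c' s t u : ℤ} (hu : u = -(b + c)) (hA : a + (s + t) = -1)
    (hB : b + b' + (s + t) = -3) (hC : c + c' + (s + t) = -3)
    (hn : a * a + (b - 2 * u) * (b - 2 * u) + b' * b' + (c - 2 * u) * (c - 2 * u) + c' * c' +
      s * s + t * t ≤ 6 + 10 * (u * u)) :
    a = 1 ∧ b' = -1 := by
  obtain ⟨n, rfl⟩ : ∃ n, t = n - s := ⟨s + t, by ring⟩
  obtain rfl : a = -1 - n := by linarith
  obtain rfl : b' = -3 - n - b := by linarith
  obtain rfl : c' = -3 - n - c := by linarith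
  subst hu
  have hq : 5 * (n * n) + 16 * n + 8 ≤ 0 := by
    nlinarith [sq_nonneg (2 * s - n), sq_nonneg (2 * b + 3 + n), sq_nonneg (2 * c + 3 + n),
      sq_nonneg (b + c)]
  have h1 : -2 ≤ n := by
    by_contra hc
    nlinarith [not_le.1 hc]
  have h2 : n ≤ -1 := by
    by_contra hc
    nlinarith [not_le.1 hc]
  have hs : ∀ z : ℤ, 0 ≤ z * (z + 1) := fun z => by
    rcases le_or_gt 0 z with h | h <;> nlinarith
  obtain rfl | rfl : n = -2 ∨ n = -1 := by omega
  · have hu0 : b + c = 0 := by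
      by_contra hc
      nlinarith [mul_self_pos.2 hc, hs b, hs c, sq_nonneg (s + 1)]
    have hb0 : b * (b + 1) ≤ 0 := by
      by_contra hc
      nlinarith [hs c, sq_nonneg (s + 1), mul_self_nonneg (b + c), not_le.1 hc]
    have hc0 : c * (c + 1) ≤ 0 := by
      by_contra hc
      nlinarith [hs b, sq_nonneg (s + 1), mul_self_nonneg (b + c), not_le.1 hc]
    have hb1 : b ≤ 0 := by nlinarith
    have hc1 : c ≤ 0 := by nlinarith
    constructor <;> omega
  · exfalso
    have hu0 : b + c = 0 := by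
      by_contra hc
      nlinarith [mul_self_pos.2 hc, mul_self_nonneg (b + 1), mul_self_nonneg (c + 1), hs s]
    obtain rfl : c = -b := by linarith
    nlinarith [mul_self_nonneg b, hs s]

variable {ι : Type*} [Fintype ι] [DecidableEq ι] {J W : Type*} [Fintype J] [Fintype W]

/-- The entries of `r` at `A` and `B'`. -/
theorem row_values {D : Cols ι J W} (N : Normal D) (E : Eight D) (O : Orbit D)
    (hOA : ∀ j, O.H j E.A = 0) (hOB : ∀ j, O.H j E.B' = 0) {r : ι → ℤ} (hr1 : r D.one = 1)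
    (hr7 : dot r r = 7) (hrH : ∀ j, dot r (O.H j) = 0)
    (hra : ∀ i, dot r (D.a i) = if i = 0 then 0 else -3) :
    r E.A = 1 ∧ r E.B' = -1 := by
  obtain ⟨⟨a1A, a2A, a0A⟩, ⟨a0B, a1B, a2B⟩, ⟨a0B', a1B', a2B'⟩, ⟨a0C, a1C, a2C⟩,
    ⟨a0C', a1C', a2C'⟩, aS, aT⟩ := E.vals N
  have o0 : D.a 0 D.one = 1 := by rw [D.a_one]; rfl
  have o1 : D.a 1 D.one = 0 := by rw [D.a_one]; rfl
  have o2 : D.a 2 D.one = 0 := by rw [D.a_one]; rfl
  have hne : ∀ x y, ¬(D.a 0 x = D.a 0 y ∧ D.a 1 x = D.a 1 y ∧ D.a 2 x = D.a 2 y) → x ≠ y := by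
    rintro x y h rfl; exact h ⟨rfl, rfl, rfl⟩
  have nd : [D.one, E.A, E.B, E.B', E.C, E.C', E.S, E.T].Nodup := by
    simp only [List.nodup_cons, List.mem_cons, not_or, List.not_mem_nil, not_false_iff, and_true,
      List.nodup_nil]
    refine ⟨⟨E.neA, ?_, ?_, ?_, ?_, ?_, ?_⟩, ⟨?_, ?_, ?_, ?_, ?_, ?_⟩, ⟨E.neB, ?_, ?_, ?_, ?_⟩,
      ⟨?_, ?_, ?_, ?_⟩, ⟨E.neC, ?_, ?_⟩, ⟨?_, ?_⟩, E.neS⟩
    all_goals refine hne _ _ ?_
    all_goals simp only [o0, o1, o2, a0A, a1A, a2A, a0B, a1B, a2B, a0B', a1B', a2B', a0C, a1C,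
      a2C, a0C', a1C', a2C', aS, aT]
    all_goals norm_num
  simp only [List.nodup_cons, List.mem_cons, not_or, List.not_mem_nil, not_false_iff, and_true,
    List.nodup_nil] at nd
  let F : Finset ι := {D.one, E.A, E.B, E.B', E.C, E.C', E.S, E.T}
  have hF : ∀ g : ι → ℤ, ∑ x ∈ F, g x = g D.one + g E.A + g E.B + g E.B' + g E.C + g E.C' +
      g E.S + g E.T := fun g => by
    simp [F, nd, add_assoc]
  have hH : ∀ j, O.H j E.B = 1 ∧ O.H j E.S = 0 ∧ O.H j E.T = 0 ∧
      (O.H j E.C = 1 ∧ O.H j E.C' = 0 ∨ O.H j E.C = 0 ∧ O.H j E.C' = 1) := by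
    intro j
    obtain ⟨d0, d1, d2⟩ := E.dots N (O.H j)
    rw [H64.Ward.dot_comm, O.H_a] at d0 d1 d2
    rw [O.H_one, hOA] at d0
    rw [hOB] at d1
    simp at d0 d1 d2
    have hle := sum_sq_le (O.H j) F
    rw [hF, O.H_sq, O.H_one, hOA, hOB] at hle
    obtain ⟨vS, hvS⟩ : ∃ z, O.H j E.S = z := ⟨_, rfl⟩
    obtain ⟨vC, hvC⟩ : ∃ z, O.H j E.C = z := ⟨_, rfl⟩
    have eT : O.H j E.T = -vS := by linarith
    have eB : O.H j E.B = 1 := by linarith
    have eC' : O.H j E.C' = 1 - vC := by linarith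
    rw [eT, eB, eC', hvS, hvC] at hle
    have hS : vS = 0 := by
      by_contra hc
      rcases le_or_gt vC 0 with h | h <;> nlinarith [mul_self_pos.2 hc]
    have hC : 0 ≤ vC ∧ vC ≤ 1 := by constructor <;> by_contra hc <;> nlinarith [not_le.1 hc]
    exact ⟨eB, by omega, by omega, by omega⟩
  obtain ⟨i, j, hij, hC⟩ : ∃ i j, i ≠ j ∧ O.H i E.C = O.H j E.C := by
    rcases (hH 0).2.2.2 with h | h <;> rcases (hH 1).2.2.2 with h' | h' <;>
      rcases (hH 2).2.2.2 with h'' | h''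
    all_goals first
      | exact ⟨0, 1, by decide, by omega⟩
      | exact ⟨0, 2, by decide, by omega⟩
      | exact ⟨1, 2, by decide, by omega⟩
  obtain ⟨d0, d1, d2⟩ := E.dots N r
  rw [H64.Ward.dot_comm, hra] at d0 d1 d2
  simp at d0 d1 d2
  rw [hr1] at d0
  have key : ∀ u : ℤ, dot (fun z => r z - u * (O.H i z + O.H j z))
      (fun z => r z - u * (O.H i z + O.H j z)) = 7 + 10 * (u * u) := by
    intro u
    have h : dot (fun z => r z - u * (O.H i z + O.H j z))
        (fun z => r z - u * (O.H i z + O.H j z)) = dot r r - 2 * u * dot r (O.H i) -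
          2 * u * dot r (O.H j) + u * u * dot (O.H i) (O.H i) + u * u * dot (O.H j) (O.H j) +
          2 * (u * u) * dot (O.H i) (O.H j) := by
      simp only [H64.Ward.dot, mul_sum, ← sum_add_distrib, ← sum_sub_distrib]
      exact sum_congr rfl fun z _ => by ring
    rw [h, hr7, hrH, hrH, O.H_sq, O.H_sq, O.H_dot i j hij]
    ring
  obtain ⟨iB, iS, iT, iC⟩ := hH i
  obtain ⟨jB, jS, jT, jC⟩ := hH j
  rcases iC with ⟨iC, iC'⟩ | ⟨iC, iC'⟩
  · obtain ⟨jC, jC'⟩ : O.H j E.C = 1 ∧ O.H j E.C' = 0 := by omega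
    have hle := sum_sq_le (fun z => r z - -(r E.B + r E.C) * (O.H i z + O.H j z)) F
    rw [key, hF] at hle
    simp only [hr1, O.H_one, hOA, hOB, iB, iS, iT, iC, iC', jB, jS, jT, jC, jC'] at hle
    exact row_solve (b := r E.B) (c := r E.C) (c' := r E.C') (s := r E.S) (t := r E.T) rfl
      (by linarith) (by linarith) (by linarith) (by linarith)
  · obtain ⟨jC, jC'⟩ : O.H j E.C = 0 ∧ O.H j E.C' = 1 := by omega
    have hle := sum_sq_le (fun z => r z - -(r E.B + r E.C') * (O.H i z + O.H j z)) F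
    rw [key, hF] at hle
    simp only [hr1, O.H_one, hOA, hOB, iB, iS, iT, iC, iC', jB, jS, jT, jC, jC'] at hle
    exact row_solve (b := r E.B) (c := r E.C') (c' := r E.C) (s := r E.S) (t := r E.T) rfl
      (by linarith) (by linarith) (by linarith) (by linarith)

/-- The sums of the rows of `H₁` and the three `H` at `A` and `B'`, before the change of signs. -/
theorem row_sums {D : Cols ι J W} {s : ι → ℤ} (hs : IsSign D.one s) (N : Normal (D.flip hs))
    (E : Eight (D.flip hs)) (O : Orbit D) (hO : ∀ j, O.H j E.A = 0 ∧ O.H j E.B' = 0) {r : ι → ℤ}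
    (hr1 : r D.one = 1) (hr7 : dot r r = 7) (hrH : ∀ j, dot r (O.H j) = 0)
    (hra : ∀ i, dot r (D.a i) = if i = 0 then 0 else -3) :
    r E.A + ∑ j, O.H j E.A = s E.A ∧ r E.B' + ∑ j, O.H j E.B' = -s E.B' := by
  obtain ⟨hA, hB⟩ := row_values N E (O.flip hs) (r := s * r)
    (fun j => by simp [Orbit.flip, (hO j).1]) (fun j => by simp [Orbit.flip, (hO j).2])
    (by simp [Cols.flip, hs.one, hr1]) ((hs.dot_mul r r).trans hr7)
    (fun j => (hs.dot_mul r (O.H j)).trans (hrH j)) (fun i => (hs.dot_mul r (D.a i)).trans (hra i))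
  simp only [Pi.mul_apply] at hA hB
  simp only [(hO _).1, (hO _).2, sum_const_zero, add_zero]
  exact ⟨by linear_combination (s E.A) * hA - r E.A * hs.sq E.A,
    by linear_combination (s E.B') * hB - r E.B' * hs.sq E.B'⟩

end Cfsg.Agent.H29.Ward
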