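import Cfsg.Agent.H40.Ward.HRows
import Cfsg.Agent.CharInduce.Monomial

/-!
# The congruence of a degree modulo `|K|`

If the rows of `H₁` and of the three `H v` of every nontrivial character of `K` add up to the same
integer `c` at `χ`, then `χ(1) ≡ c (mod |K|)`.
-/

set_option autoImplicit false
set_option linter.unusedSectionVars false
set_option linter.style.haveILetI false

namespace Cfsg.Agent.H29.Ward

open Subgroup Cfsg Cfsg.Agent Cfsg.Agent.CharBasic Cfsg.Agent.CharInduce
open Cfsg.Agent.H40.Ward (TorusPair)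
open scoped ComplexConjugate

universe u

variable {G : Type u} [Group G] [Fintype G] (P : TorusPair G)

/-- `H₁ + ∑ H v` only sees `K`. -/
theorem classInner_sum_H (lam : ↥P.K →* ℂˣ) [Fintype ↥P.W] [DecidableEq ↥P.W] [Fintype ↥P.K]
    {f : G → ℂ} (hf : IsClassFunction G f) :
    classInner (P.H1 lam) f + ∑ v ∈ (Finset.univ : Finset ↥P.W).erase 1,
        classInner (P.H v lam) f =
      (Nat.card ↥P.K : ℂ)⁻¹ * ∑ k : ↥P.K, (1 - (lam k : ℂ)) * conj (f (k : G)) := by
  haveI := P.klein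
  have hcard : Fintype.card ↥P.W = 4 := by rw [← Nat.card_eq_fintype_card, IsKleinFour.card_four]
  simp only [TorusPair.H1, TorusPair.H_eq_ind, P.classInner_ind _ lam hf, ← Finset.mul_sum,
    ← mul_add, mul_inv, mul_assoc]
  rw [Finset.sum_comm (s := (Finset.univ : Finset ↥P.W).erase 1)]
  simp only [← Finset.mul_sum, ← Finset.sum_mul, one_mul]
  rw [← Finset.sum_add_distrib, Finset.sum_eq_single (1 : ↥P.W)]
  · simp only [P.sgn_one, one_mul, Finset.sum_const, Finset.card_erase_of_mem (Finset.mem_univ _),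
      Finset.card_univ, hcard, nsmul_eq_mul, OneMemClass.coe_one, one_mul]
    push_cast
    ring
  · intro x _ hx
    have hs : ∑ v ∈ (Finset.univ : Finset ↥P.W).erase 1, P.sgn v x = -1 := by
      have h1 : ∀ v ∈ (Finset.univ : Finset ↥P.W).erase 1,
          P.sgn v x = if v = x then 1 else -1 := by
        intro v _
        simp [TorusPair.sgn, hx, eq_comm (a := x)]
      rw [Finset.sum_congr rfl h1, ← Finset.add_sum_erase _ _
        (Finset.mem_erase.2 ⟨hx, Finset.mem_univ x⟩), if_pos rfl,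
        Finset.sum_congr rfl fun v hv => if_neg (Finset.ne_of_mem_erase hv), Finset.sum_const,
        Finset.card_erase_of_mem (Finset.mem_erase.2 ⟨hx, Finset.mem_univ x⟩),
        Finset.card_erase_of_mem (Finset.mem_univ _), Finset.card_univ, hcard]
      norm_num
    rw [hs]
    ring
  · simp

/-- **Congruence modulo `|K|`.** -/
theorem deg_congr_torus [Fintype ↥P.W] [DecidableEq ↥P.W] (χ : IrrCharacter G) {c : ℤ}
    (hc : ∀ lam : ↥P.K →* ℂˣ, lam ≠ 1 →
      classInner (P.H1 lam) (χ : G → ℂ) + ∑ v ∈ (Finset.univ : Finset ↥P.W).erase 1,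
        classInner (P.H v lam) (χ : G → ℂ) = (c : ℂ)) :
    (Nat.card ↥P.K : ℤ) ∣ (charDegree (χ : G → ℂ) : ℤ) - c := by
  classical
  haveI : Fintype ↥P.K := Fintype.ofFinite _
  have hK0 : (Nat.card ↥P.K : ℂ) ≠ 0 := by simp
  have hcomm : ∀ a b : ↥P.K, a * b = b * a := fun a b => Subtype.ext (P.comm_K a a.2 b b.2).eq
  let f : ↥P.K → ℂ := fun k => (χ : G → ℂ) (k : G)
  have hres : IsCharacter ↥P.K f := CharInduce.IsChar.res (IsIrr.isCharacter χ.2) P.K
  obtain ⟨m, hm⟩ := classInner_isChar_nat hres (CharInduce.IsChar.one (G := ↥P.K))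
  obtain ⟨triv, htriv⟩ : ∃ ψ : IrrCharacter ↥P.K, ∀ k, (ψ : ↥P.K → ℂ) k = 1 :=
    ⟨H36.SelfCentral.triv ↥P.K, fun _ => rfl⟩
  have key : ∀ ψ : IrrCharacter ↥P.K, classInner f (ψ : ↥P.K → ℂ) =
      if ψ = triv then (m : ℂ) else (m : ℂ) - c := by
    intro ψ
    have h1 : (ψ : ↥P.K → ℂ) 1 = 1 := (commutative_iff_forall_linear.1 hcomm) ψ
    obtain ⟨μ, hμ⟩ := CharInduce.IsChar.exists_hom_of_degree_one (IsIrr.isCharacter ψ.2) h1
    split_ifs with h
    · subst h
      rw [← hm]
      exact congrArg (classInner f) (funext htriv)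
    · have hμ1 : μ ≠ 1 := fun e => h (Subtype.ext (funext fun k => by
        rw [hμ, htriv, e]; simp))
      have h2 := hc μ hμ1
      rw [classInner_sum_H P μ (IsIrr.isClassFunction χ.2)] at h2
      have h3 : (Nat.card ↥P.K : ℂ) * m = ∑ k : ↥P.K, f k := by
        rw [← hm, classInner_def, ← mul_assoc, mul_inv_cancel₀ hK0, one_mul]
        simp
      rw [classInner_def, inv_mul_eq_iff_eq_mul₀ hK0, mul_sub, h3]
      rw [inv_mul_eq_iff_eq_mul₀ hK0] at h2
      have h4 := congrArg conj h2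
      simp only [map_sum, map_mul, map_natCast, map_intCast, map_sub, map_one,
        Complex.conj_conj] at h4
      rw [← h4, ← Finset.sum_sub_distrib]
      refine Finset.sum_congr rfl fun k _ => ?_
      show f k * conj ((ψ : ↥P.K → ℂ) k) = f k - (1 - conj (μ k : ℂ)) * f k
      rw [hμ]; ring
  have hsq := sum_sq_degree (G := ↥P.K)
  have hdeg1 : ∀ ψ : IrrCharacter ↥P.K, (ψ : ↥P.K → ℂ) 1 = 1 :=
    commutative_iff_forall_linear.1 hcomm
  simp only [hdeg1, one_pow, Finset.sum_const, Finset.card_univ, nsmul_eq_mul, mul_one] at hsq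
  have hexp := congrFun (classFunction_expansion (ψ := f)
    (fun a b => by show f (b * a * b⁻¹) = f a; rw [hcomm b a, mul_inv_cancel_right])) 1
  simp only [Finset.sum_apply, Pi.smul_apply, smul_eq_mul, hdeg1, mul_one, key] at hexp
  rw [Finset.sum_ite, Finset.filter_eq', if_pos (Finset.mem_univ triv), Finset.sum_singleton,
    Finset.sum_const, nsmul_eq_mul, Finset.filter_ne', Finset.card_erase_of_mem (Finset.mem_univ _),
    Finset.card_univ, Nat.cast_sub (Fintype.card_pos_iff.2 ⟨triv⟩), hsq, Nat.cast_one] at hexp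
  have hd : f 1 = ((charDegree (χ : G → ℂ) : ℕ) : ℂ) := (H83.charDegree_eq χ.2).1
  rw [hd] at hexp
  refine ⟨(m : ℤ) - c, ?_⟩
  have h5 : (((charDegree (χ : G → ℂ) : ℤ) - c : ℤ) : ℂ) =
      (((Nat.card ↥P.K : ℤ) * ((m : ℤ) - c) : ℤ) : ℂ) := by
    push_cast
    linear_combination hexp
  exact_mod_cast h5

end Cfsg.Agent.H29.Ward
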