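import Cfsg.Agent.H29.Ward.Equations
import Cfsg.Agent.H29.Ward.PairRows
import Cfsg.Agent.H29.Ward.TorusCongr
import Cfsg.Agent.H84.Ward.Congr
import Cfsg.Agent.H22.Ward.GLowerFrame
import Cfsg.Agent.H22.Ward.PairArith
import Cfsg.Agent.H22.Ward.PairPlus

/-!
# The pair case is impossible; the equations of Ward's theorem

The congruences modulo `|K|` and `8` on the rows `A` and `B'`, the order formula, and the pure
arithmetic of `H22.Ward`.
-/

set_option autoImplicit false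
set_option linter.unusedSectionVars false
set_option linter.style.haveILetI false

namespace Cfsg.Agent.H29.Ward

open Subgroup Cfsg Cfsg.Agent
open Cfsg.Agent.H84.Ward (TData LSide)
open Cfsg.Agent.H64.Ward (Normal Eight IsSign MainCase PairEquations dot)

universe u

variable {G : Type u} [Group G] [Fintype G] {F : Type} [Field F] [Fintype F] {t v : G}

local notation "P2" => Matrix.ProjectiveSpecialLinearGroup (Fin 2) F

/-- The orbits of `w` on the torus have length three. -/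
theorem Frame.card_K_mod (f : Frame G F t v)
    (hfpf : ∀ k ∈ f.P.K, f.P.w * k * f.P.w⁻¹ = k → k = 1) : Nat.card ↥f.P.K % 3 = 1 := by
  classical
  haveI : Fact (Nat.Prime 3) := ⟨Nat.prime_three⟩
  let σ : Function.End ↥f.P.K := fun k => ⟨f.P.w * k * f.P.w⁻¹, f.P.w_K k k.2⟩
  have hn : ∀ (n : ℕ) (k : ↥f.P.K),
      (((σ ^ n) k : ↥f.P.K) : G) = f.P.w ^ n * k * (f.P.w ^ n)⁻¹ := by
    intro n
    induction n with
    | zero => intro k; simp; rfl
    | succ n ih =>
      intro k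
      rw [pow_succ' σ]
      show f.P.w * (((σ ^ n) k : ↥f.P.K) : G) * f.P.w⁻¹ = _
      rw [ih, pow_succ']
      group
  have h3 : σ ^ 3 ^ 1 = 1 := by
    refine funext fun k => Subtype.ext ?_
    rw [pow_one, hn, (f.P.comm_T f.P.w_cube (f.P.K_le k.2)).eq, mul_inv_cancel_right]
    rfl
  haveI := Fintype.ofFinite ↥f.P.K
  have hfix : Function.fixedPoints σ = {1} := by
    ext k
    refine ⟨fun hk => Subtype.ext (hfpf k k.2 (congrArg Subtype.val hk)), ?_⟩
    rintro rfl
    exact Subtype.ext (by simp [σ])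
  have h := Equiv.Perm.card_fixedPoints_modEq (f := σ) (n := 1) h3
  have h1 : Fintype.card (Function.fixedPoints σ) = 1 := by
    rw [← Nat.card_eq_fintype_card, hfix]
    simp
  rw [h1, ← Nat.card_eq_fintype_card] at h
  exact h

theorem Frame.card_K (f : Frame G F t v) : Nat.card ↥f.P.K = Nat.card ↥f.T :=
  (Nat.card_congr f.ι.toEquiv).symm

variable [Fintype (Matrix.ProjectiveSpecialLinearGroup (Fin 2) F)] {J W : Type} [Fintype J]
  [Fintype W]

open scoped Classical in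
/-- The congruences modulo `|K|` on two rows missed by all `H`. -/
theorem torus_congr (h : Hyp G F t) (h11 : 11 ≤ Fintype.card F) (f : Frame G F t v)
    (hfpf : ∀ k ∈ f.P.K, f.P.w * k * f.P.w⁻¹ = k → k = 1)
    {X : LSide P2 (Fin 3 ⊕ J ⊕ W)} (hX : IsPslSide X (signedQ F) (signedH F))
    {μ : J → (↥f.P.K →* ℂˣ)} (hV : TorusValues X f.iota μ) {s : IrrCharacter G → ℤ}
    (hs : IsSign (H36.SelfCentral.triv G) s)
    (N : Normal ((cols f.D hX (h.signedQ_spec h11).1 (h.signedQ_spec h11).2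
      (f.conj_invol h)).flip hs))
    (E : Eight ((cols f.D hX (h.signedQ_spec h11).1 (h.signedQ_spec h11).2
      (f.conj_invol h)).flip hs))
    (hH : ∀ (O : H64.Ward.Orbit (cols f.D hX (h.signedQ_spec h11).1 (h.signedQ_spec h11).2
      (f.conj_invol h))) (j : Fin 3), O.H j E.A = 0 ∧ O.H j E.B' = 0) :
    (Nat.card ↥f.P.K : ℤ) ∣ s E.A * (charDegree (E.A : G → ℂ) : ℤ) - 1 ∧
      (Nat.card ↥f.P.K : ℤ) ∣ s E.B' * (charDegree (E.B' : G → ℂ) : ℤ) + 1 := by
  haveI : Fintype ↥f.P.W := Fintype.ofFinite _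
  haveI := f.P.klein
  have hx1 : f.tW ≠ 1 := f.tW_ne_one
  have hv : ∀ j : Fin 3, f.P.actW (j, 0) f.tW ≠ 1 := fun j e =>
    hx1 (f.P.actW_injective (j, 0) (e.trans (map_one _).symm))
  have key : ∀ lam : ↥f.P.K →* ℂˣ, lam ≠ 1 → ∀ χ : IrrCharacter G,
      (χ = E.A ∨ χ = E.B') →
      classInner (f.P.H1 lam) (χ : G → ℂ) +
          ∑ x ∈ (Finset.univ : Finset ↥f.P.W).erase 1, classInner (f.P.H x lam) (χ : G → ℂ) =
        ((if χ = E.A then s χ else -s χ : ℤ) : ℂ) := by
    intro lam hl χ hχ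
    have hlam : f.P.Adapted lam := f.P.adapted_of_fpf hfpf hl
    obtain ⟨O, hO, -⟩ := f.P.exists_orbit_lam hfpf (f.conj_invol h) f.tW_coe f.emb_iota
      f.odd_iota (cols f.D hX (h.signedQ_spec h11).1 (h.signedQ_spec h11).2 (f.conj_invol h))
      rfl (fun _ => rfl) (f.D.apply_val X) (fun i => X.θ (.inl i))
      (fun i => X.van (.inl i)) (fun _ _ => rfl) hV.val_a (fun j => X.θ (.inr (.inl j)))
      (fun j => X.van (.inr (.inl j))) (fun _ _ => rfl) μ hV.val_p hV.ne_one hV.inj hV.surj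
      (fun w => X.θ (.inr (.inr w))) (fun w => X.van (.inr (.inr w))) (fun _ _ => rfl) hV.val_z
      hlam hv
    have himg : (Finset.univ : Finset ↥f.P.W).erase 1 =
        Finset.univ.image fun j : Fin 3 => f.P.actW (j, 0) f.tW := by
      refine (Finset.eq_of_subset_of_card_le ?_ (le_of_eq ?_)).symm
      · intro x hx
        obtain ⟨j, -, rfl⟩ := Finset.mem_image.1 hx
        exact Finset.mem_erase.2 ⟨hv j, Finset.mem_univ _⟩
      · rw [Finset.card_image_of_injective _ (f.P.orbit_injective hlam hx1),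
          Finset.card_erase_of_mem (Finset.mem_univ _), Finset.card_univ,
          ← Nat.card_eq_fintype_card, IsKleinFour.card_four, Finset.card_univ, Fintype.card_fin]
    rw [himg, Finset.sum_image fun a _ b _ e => f.P.orbit_injective hlam hx1 e,
      f.P.h1coef_spec lam χ]
    simp only [f.P.hcoef_spec (hv _) hlam χ, ← hO]
    obtain ⟨eA, eB⟩ := row_sums hs N E O (hH O) (r := f.P.h1coef lam)
      (f.P.h1coef_triv hlam)
      (by unfold H64.Ward.dot; convert f.P.h1coef_gram hlam using 2)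
      (fun j => by
        unfold H64.Ward.dot
        rw [hO]
        convert f.P.h1coef_orth hlam (hv j) using 2)
      (fun i => by
        unfold H64.Ward.dot
        simp only [cols, H84.Ward.TData.d]
        convert f.P.h1coef_F (lam := lam) (D := f.D) (X.van (.inl i))
          (m := if i = 0 then 0 else -3) (by
            rw [f.P.classInner_H1_F_const hlam (X.van (.inl i)) f.tW_coe f.emb_iota f.odd_iota
              (hV.val_a i)]
            split_ifs <;> simp [Complex.conj_ofNat] <;> norm_num) using 2)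
    rcases hχ with rfl | rfl
    · rw [if_pos rfl]; exact_mod_cast eA
    · rw [if_neg (show E.B' ≠ E.A from fun e => E.outA.1 (e ▸ E.mem1.2.1))]; exact_mod_cast eB
  have hA := deg_congr_torus f.P E.A (c := s E.A) fun lam hl => by
    rw [key lam hl E.A (Or.inl rfl), if_pos rfl]
  have hB := deg_congr_torus f.P E.B' (c := -s E.B') fun lam hl => by
    rw [key lam hl E.B' (Or.inr rfl), if_neg (show E.B' ≠ E.A from fun e => E.outA.1 (e ▸ E.mem1.2.1))]
  constructor
  · have := hA.mul_left (s E.A)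
    rwa [mul_sub, hs.sq] at this
  · have := hB.mul_left (s E.B')
    rwa [mul_sub, mul_neg, hs.sq, sub_neg_eq_add] at this

/-- `8 ∣ χ(1) - χ(t)`. -/
theorem eight_congr (h : Hyp G F t) (f : Frame G F t v) (χ : IrrCharacter G) {z : ℤ}
    (hz : (χ : G → ℂ) f.D.t = (z : ℂ)) : (8 : ℤ) ∣ (charDegree (χ : G → ℂ) : ℤ) - z := by
  obtain ⟨S, -, -, hS8⟩ := h.exists_sylow
  have := H84.Ward.deg_congr (S : Subgroup G) (t := f.D.t)
    (fun x hx hx1 => f.conj_invol h x (h.sq_of_two S.isPGroup' hx) hx1) χ hz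
  rwa [hS8] at this

/-- The degree divides the group order. -/
theorem degree_dvd_card (χ : IrrCharacter G) :
    (charDegree (χ : G → ℂ) : ℤ) ∣ (Nat.card G : ℤ) := by
  obtain ⟨n, -, hn, hd, -⟩ := CharBasic.IsIrr.degree_dvd χ.2
  have : charDegree (χ : G → ℂ) = n := by
    exact_mod_cast ((H83.charDegree_eq χ.2).1.symm.trans hn)
  rw [this]
  exact_mod_cast hd

/-- `sgn(Q) |G| k = (Q (Q² - 1))²`. -/
theorem kval_eq (h : Hyp G F t) (D : TData G P2) :
    (Nat.card G : ℚ) * kval D (signedQ F) =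
      ((signedQ F).sign : ℚ) * ((signedQ F : ℚ) * ((signedQ F : ℚ) ^ 2 - 1)) ^ 2 := by
  haveI : Fintype P2 := Fintype.ofFinite _
  have hcard : 2 * Nat.card P2 = Fintype.card F * (Fintype.card F ^ 2 - 1) :=
    H56.CTwoAb.card_psl_two_odd (by have := h.mod_eight; omega)
  have hc : (2 * (Nat.card P2 : ℚ)) = (Fintype.card F : ℚ) * ((Fintype.card F : ℚ) ^ 2 - 1) := by
    have : ((2 * Nat.card P2 : ℕ) : ℚ) =
        ((Fintype.card F * (Fintype.card F ^ 2 - 1) : ℕ) : ℚ) := by rw [hcard]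
    rw [Nat.cast_mul, Nat.cast_mul,
      Nat.cast_sub (Nat.one_le_pow _ _ Fintype.card_pos)] at this
    push_cast at this
    exact this
  rw [kval_mul, hc]
  congr 1
  rw [signedQ]
  split_ifs <;> push_cast <;> ring

open scoped Classical in
/-- The pair case is impossible. -/
theorem pair_false (h : Hyp G F t) (h11 : 11 ≤ Fintype.card F) (f : Frame G F t v)
    (hfpf : ∀ k ∈ f.P.K, f.P.w * k * f.P.w⁻¹ = k → k = 1)
    {X : LSide P2 (Fin 3 ⊕ J ⊕ W)} (hX : IsPslSide X (signedQ F) (signedH F))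
    {μ : J → (↥f.P.K →* ℂˣ)} (hV : TorusValues X f.iota μ) {s : IrrCharacter G → ℤ}
    (hs : IsSign (H36.SelfCentral.triv G) s)
    (N : Normal ((cols f.D hX (h.signedQ_spec h11).1 (h.signedQ_spec h11).2
      (f.conj_invol h)).flip hs))
    (E : Eight ((cols f.D hX (h.signedQ_spec h11).1 (h.signedQ_spec h11).2
      (f.conj_invol h)).flip hs))
    (hbal : E.Balanced)
    (hpe : PairEquations (signedQ F) (signedH F) (kval f.D (signedQ F))
      (s E.A * (charDegree (E.A : G → ℂ) : ℤ)) (s E.B * (charDegree (E.B : G → ℂ) : ℤ))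
      (s E.B' * (charDegree (E.B' : G → ℂ) : ℤ)) (s E.T * (charDegree (E.T : G → ℂ) : ℤ))
      (s E.S * (charDegree (E.S : G → ℂ) : ℤ)))
    (hH : ∀ (O : H64.Ward.Orbit (cols f.D hX (h.signedQ_spec h11).1 (h.signedQ_spec h11).2
      (f.conj_invol h))) (j : Fin 3), O.H j E.A = 0 ∧ O.H j E.B' = 0) : False := by
  have hlow := H22.Ward.frame_lower h f hfpf
  obtain ⟨hKA, hKB⟩ := torus_congr h h11 f hfpf hX hV hs N E hH
  obtain ⟨hQh, hh⟩ := h.signedQ_spec h11
  obtain ⟨tA, tB, -, -, -, -, -⟩ := E.values N hbal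
  have hA1 := hpe.ne_one hh
  obtain ⟨hA0, -, -, hB0, -, -, hsum, -, -, hk, hE⟩ := hpe
  simp only [cols] at hA0 hA1 hB0 hsum hk hE
  simp only [H64.Ward.Cols.flip, cols, Pi.mul_apply] at tA tB
  generalize hAd : s E.A * (charDegree (E.A : G → ℂ) : ℤ) = A at hA0 hA1 hsum hk hE hKA
  generalize hBd : s E.B * (charDegree (E.B : G → ℂ) : ℤ) = B at hB0 hsum hk hE
  generalize hCd : s E.B' * (charDegree (E.B' : G → ℂ) : ℤ) = C at hsum hE hKB
  -- congruences modulo `8`
  have hA8 : (8 : ℤ) ∣ A - 1 := by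
    have := (eight_congr h f E.A (f.D.apply_val X E.A)).mul_left (s E.A)
    rwa [mul_sub, hAd, tA] at this
  have hB8 : (8 : ℤ) ∣ B - signedH F := by
    have := (eight_congr h f E.B (f.D.apply_val X E.B)).mul_left (s E.B)
    rwa [mul_sub, hBd, tB] at this
  have hdA : A ∣ (Nat.card G : ℤ) := by
    rw [← hAd]
    exact ((IsUnit.of_mul_eq_one _ (hs.sq E.A)).mul_left_dvd).2 (degree_dvd_card E.A)
  -- the order
  have hQ0 : signedQ F ≠ 0 := by omega
  have hGeq : (Nat.card G : ℤ) =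
      (signedQ F).sign * (signedQ F) ^ 3 * (signedQ F + 1) * (-2 * B) := by
    have hk' := kval_eq h f.D
    have hne : ((signedQ F : ℚ) - 1) ^ 2 * ((signedQ F : ℚ) + 1) ≠ 0 :=
      mul_ne_zero (pow_ne_zero 2 (sub_ne_zero.2 (by exact_mod_cast (by omega : signedQ F ≠ 1))))
        (by exact_mod_cast (by omega : signedQ F + 1 ≠ 0))
    have : (Nat.card G : ℚ) = (((signedQ F).sign : ℤ) : ℚ) * (signedQ F : ℚ) ^ 3 *
        ((signedQ F : ℚ) + 1) * (-2 * (B : ℚ)) := by
      refine mul_right_cancel₀ hne ?_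
      linear_combination -(Nat.card G : ℚ) * hk +
        (signedQ F : ℚ) * (-2 * (B : ℚ)) * hk'
    exact_mod_cast this
  have hGpos : (0 : ℤ) < Nat.card G := by exact_mod_cast Nat.card_pos
  -- `θ` divides the order
  have hcard : 2 * Nat.card P2 = Fintype.card F * (Fintype.card F ^ 2 - 1) :=
    H56.CTwoAb.card_psl_two_odd (by have := h.mod_eight; omega)
  have hL : ((Fintype.card F : ℤ) * ((Fintype.card F : ℤ) ^ 2 - 1)) ∣ (Nat.card G : ℤ) := by
    have h1 : Fintype.card F * (Fintype.card F ^ 2 - 1) ∣ Nat.card G := by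
      rw [← hcard, ← h.card_centralizer]
      exact card_subgroup_dvd_card _
    have h2 : ((Fintype.card F * (Fintype.card F ^ 2 - 1) : ℕ) : ℤ) ∣ ((Nat.card G : ℕ) : ℤ) :=
      Int.natCast_dvd_natCast.2 h1
    rw [Nat.cast_mul, Nat.cast_sub (Nat.one_le_pow _ _ Fintype.card_pos)] at h2
    push_cast at h2
    exact h2
  -- the field
  have hmod := f.card_K_mod hfpf
  obtain ⟨p, hp⟩ := CharP.exists F
  obtain ⟨a, hpp, hq⟩ := FiniteField.card F p
  rcases h.mod_eight with h8 | h8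
  · -- `q ≡ 3 (mod 8)`: `p = 3`
    have hm4 : 4 * Nat.card ↥f.P.K = Fintype.card F + 1 := by
      rw [f.card_K]; exact f.card_three h8
    have hp3 : p = 3 := by
      have h3 : 3 ∣ p ^ (a : ℕ) := by rw [← hq]; omega
      exact ((Nat.prime_dvd_prime_iff_eq Nat.prime_three hpp).1
        (Nat.prime_three.dvd_of_dvd_pow h3)).symm
    subst hp3
    have hQ : signedQ F = (3 : ℤ) ^ (a : ℕ) := by
      rw [signedQ, if_pos h8, hq]; norm_num
    have hodd : Odd (a : ℕ) := by
      rcases Nat.even_or_odd (a : ℕ) with ⟨r, hr⟩ | ho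
      · exfalso
        rw [hq, hr, ← two_mul, pow_mul, Nat.pow_mod] at h8
        norm_num at h8
      · exact ho
    have ha3 : 3 ≤ (a : ℕ) := by
      by_contra hc
      obtain ⟨r, hr⟩ := hodd
      rw [hq, show (a : ℕ) = 1 by omega] at h11
      norm_num at h11
    have hqz : (Fintype.card F : ℤ) = (3 : ℤ) ^ (a : ℕ) := by rw [hq]; norm_num
    have hm : 4 * (Nat.card ↥f.P.K : ℤ) = (3 : ℤ) ^ (a : ℕ) + 1 := by
      rw [← hqz]; exact_mod_cast hm4
    have hθ : signedH F = 2 * (Nat.card ↥f.P.K : ℤ) - 1 := by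
      have : signedQ F = 4 * (Nat.card ↥f.P.K : ℤ) - 1 := by rw [hQ]; linarith
      omega
    refine H22.Ward.no_pair (a : ℕ) hodd ha3 (signedH F) (Nat.card ↥f.P.K : ℤ) A B C
      (Nat.card G : ℤ) hm hθ (by linarith) hA1 ?_ hGpos hE hA8 hKA hKB hB8 hdA ?_ ?_
    · rw [hGeq, Int.sign_eq_one_of_pos (by rw [hQ]; positivity), hQ]; ring
    · refine dvd_trans ?_ hL
      refine Dvd.intro (2 * ((3 : ℤ) ^ (a : ℕ)) * ((3 : ℤ) ^ (a : ℕ) + 1)) ?_
      rw [hqz, hθ]
      linear_combination ((3 : ℤ) ^ (a : ℕ)) * ((3 : ℤ) ^ (a : ℕ) + 1) * hm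
    · rw [← hqz]; exact hlow
  · -- `q ≡ 5 (mod 8)`
    have hm4 : 4 * Nat.card ↥f.P.K + 1 = Fintype.card F := by
      rw [f.card_K]; exact f.card_five h8
    have hqz : ((Fintype.card F : ℕ) : ℤ) = 4 * (Nat.card ↥f.P.K : ℤ) + 1 := by
      exact_mod_cast hm4.symm
    have hQ : signedQ F = -(Fintype.card F : ℤ) := by rw [signedQ, if_neg (by omega)]
    have hθ : signedH F = -(2 * (Nat.card ↥f.P.K : ℤ) + 1) := by omega
    refine H22.Ward.no_pair_plus p (a : ℕ) hpp (Fintype.card F : ℤ) (signedH F)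
      (Nat.card ↥f.P.K : ℤ) A B C (Nat.card G : ℤ) (by rw [hq]; norm_num) hqz
      (by exact_mod_cast f.P.odd) (by omega) hθ (by linarith) hA1 ?_ hGpos hE hA8 hKA hKB hB8
      hdA ?_ hlow
    · rw [hGeq, Int.sign_eq_neg_one_of_neg (by omega), hQ]; ring
    · rw [hθ, neg_dvd]
      refine dvd_trans (Dvd.intro (2 * (Fintype.card F : ℤ) * ((Fintype.card F : ℤ) - 1)) ?_) hL
      linear_combination (Fintype.card F : ℤ) * ((Fintype.card F : ℤ) - 1) * (-hqz)


open scoped Classical in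
/-- **The equations of Ward's theorem.** -/
theorem ward_equations (h : Hyp G F t) (h11 : 11 ≤ Fintype.card F) (f : Frame G F t v)
    (hfpf : ∀ k ∈ f.P.K, f.P.w * k * f.P.w⁻¹ = k → k = 1)
    {X : LSide P2 (Fin 3 ⊕ J ⊕ W)} (hX : IsPslSide X (signedQ F) (signedH F))
    {μ : J → (↥f.P.K →* ℂˣ)} (hV : TorusValues X f.iota μ) :
    ∃ m : ℕ, 1 ≤ m ∧ Fintype.card F = 3 ^ (2 * m + 1) ∧
      Nat.card G = (3 ^ (2 * m + 1)) ^ 3 * ((3 ^ (2 * m + 1)) ^ 3 + 1) * (3 ^ (2 * m + 1) - 1) := by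
  obtain ⟨s, hs, N, E, hbal, hmain | ⟨hpe, hH⟩⟩ :=
    H64.Ward.Cols.table (cols f.D hX (h.signedQ_spec h11).1 (h.signedQ_spec h11).2
      (f.conj_invol h)) (nonempty_index h h11 f hV)
      (exists_orbit h h11 f hfpf hX hV)
  · exact ree_of_mainCase h h11 f.D ⟨_, _, _, _, _, hmain⟩
  exfalso
  exact pair_false h h11 f hfpf hX hV hs N E hbal hpe hH

end Cfsg.Agent.H29.Ward
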