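import Cfsg.Agent.H88.Walter.PiecePSL
import Cfsg.Agent.H56.CTwoAb.Small
import Cfsg.Agent.Linear.Dickson.Orders
import Mathlib.GroupTheory.Sylow

/-!
# The torus of an involution of `PSL₂(q)`, abelian Sylow 2-subgroups
-/

set_option autoImplicit false
set_option linter.unusedSectionVars false
set_option linter.style.haveILetI false

namespace Cfsg.Agent.H29.Ward.Psl

open Subgroup Cfsg.Agent Cfsg.Agent.Linear.Dickson
open Cfsg.Agent.H88.Walter (PSL.not_isUni PSL.eq_or_eq_of_sq PSL.centralizer_eq PSL.inverts)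

variable {F : Type*} [Field F] [Fintype F]

local notation "P2" => Matrix.ProjectiveSpecialLinearGroup (Fin 2) F

/-- Elements of a torus centraliser normalise it. -/
theorem conj_iff_of_commute {x g : P2} (h : Commute g x) :
    ∀ y, y ∈ cen x ↔ g * y * g⁻¹ ∈ cen x := fun y => by
  have := mem_cen_conj g x y
  rw [h.eq, mul_inv_cancel_right] at this
  exact this.symm

/-- An element commuting with an involution and of order `≠ 2` lies in its torus. -/
theorem mem_cen_of_commute {v y : P2} (hodd : Odd (Fintype.card F)) (hv1 : v ≠ 1) (hv : v * v = 1)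
    (hy : Commute y v) (hy2 : y * y ≠ 1) : y ∈ cen v :=
  (normalizer_cases (PSL.not_isUni hodd hv1 hv) (conj_iff_of_commute hy)).resolve_right
    fun h => hy2 h.1

/-- What commutes with a non-involution of the torus of `v` lies in the torus. -/
theorem mem_cen_of_commute_elt {v y g : P2} (hodd : Odd (Fintype.card F)) (hv1 : v ≠ 1)
    (hv : v * v = 1) (hy : y ∈ cen v) (hy2 : y * y ≠ 1) (hg : Commute g y) : g ∈ cen v := by
  have hy1 : y ≠ 1 := fun e => hy2 (by rw [e, one_mul])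
  have he : cen y = cen v := cen_eq_of_mem hv1 hy1 hy
  refine (normalizer_cases (PSL.not_isUni hodd hv1 hv) (g := g) ?_).resolve_right fun h => hy2 ?_
  · intro z
    rw [← he]
    exact conj_iff_of_commute hg z
  · have := h.2 y hy
    rw [hg.eq, mul_inv_cancel_right] at this
    exact eq_inv_iff_mul_eq_one.1 this

/-- If the Sylow `2`-subgroups of `PSL₂(q)` are abelian and `q` is odd, `q ≡ 3, 5 (mod 8)`. -/
theorem mod_eight (hodd : Odd (Fintype.card F))
    (hab : ∀ P : Sylow 2 P2, ∀ a ∈ (P : Subgroup P2), ∀ b ∈ (P : Subgroup P2), Commute a b) :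
    Fintype.card F % 8 = 3 ∨ Fintype.card F % 8 = 5 := by
  haveI : Fact (Nat.Prime 2) := ⟨Nat.prime_two⟩
  by_contra hcon
  have hq : Fintype.card F % 8 = 1 ∨ Fintype.card F % 8 = 7 := by
    obtain ⟨k, hk⟩ := hodd; omega
  have hq3 : 7 ≤ Fintype.card F := by
    have := Fintype.one_lt_card (α := F); omega
  have hG : 2 * Nat.card P2 = Fintype.card F * (Fintype.card F ^ 2 - 1) :=
    H56.CTwoAb.card_psl_two_odd (Nat.odd_iff.1 hodd)
  have hfac : Fintype.card F ^ 2 - 1 = (Fintype.card F + 1) * (Fintype.card F - 1) := by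
    simpa using Nat.sq_sub_sq (Fintype.card F) 1
  rw [hfac] at hG
  have h2G : 2 ∣ Nat.card P2 := by
    obtain ⟨k, hk⟩ := hodd
    have : 2 * Nat.card P2 = 4 * ((2 * k + 1) * (k * (k + 1))) := by
      rw [hG, hk, Nat.add_sub_cancel]; ring
    omega
  obtain ⟨v, hv'⟩ := exists_prime_orderOf_dvd_card' (G := P2) 2 h2G
  have hv : v * v = 1 := by
    have h := pow_orderOf_eq_one v
    rw [hv', pow_two] at h
    exact h
  have hv1 : v ≠ 1 := by intro e; rw [e, orderOf_one] at hv'; omega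
  have hu := PSL.not_isUni hodd hv1 hv
  have h2c : 2 ∣ Nat.card (cen v) := by
    have h := Subgroup.orderOf_dvd_natCard _ (mem_cen_self v)
    rwa [hv'] at h
  have hd : Nat.gcd 2 (Fintype.card F - 1) = 2 := Nat.gcd_eq_left (by omega)
  have h4 : 4 ∣ Nat.card (cen v) := by
    rcases card_cen_cases hu with e | e <;> rw [hd] at e <;> omega
  -- an element of order four
  have := isCyclic_cen hu
  obtain ⟨x0, hx0⟩ := IsCyclic.exists_generator (α := cen v)
  have hord : orderOf (x0 : P2) = Nat.card (cen v) := by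
    rw [Subgroup.orderOf_coe, orderOf_eq_card_of_forall_mem_zpowers hx0]
  set x := (x0 : P2) ^ (Nat.card (cen v) / 4) with hx
  have hxc : x ∈ cen v := pow_mem x0.2 _
  have hxo : orderOf x = 4 := by
    rw [hx, orderOf_pow, hord, Nat.gcd_eq_right (Nat.div_dvd_of_dvd h4)]
    exact Nat.div_div_self h4 Nat.card_pos.ne'
  have hxx : x * x ≠ 1 := fun e => by
    have := Nat.le_of_dvd (by norm_num) (orderOf_dvd_of_pow_eq_one (show x ^ 2 = 1 by rw [pow_two, e]))
    omega
  obtain ⟨P, hP⟩ := (IsPGroup.of_card (p := 2) (G := zpowers x) (n := 2)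
    (by rw [Nat.card_zpowers, hxo]; rfl)).exists_le_sylow
  have hxP : x ∈ (P : Subgroup P2) := hP (mem_zpowers x)
  have hle : (P : Subgroup P2) ≤ cen v := fun g hg =>
    mem_cen_of_commute_elt hodd hv1 hv hxc hxx (hab P g hg x hxP)
  have hdvd := card_dvd_of_le hle
  refine P.not_dvd_index ?_
  obtain ⟨r, hr⟩ := hdvd
  have hPm := (P : Subgroup P2).card_mul_index
  rcases card_cen_cases hu with e | e <;> rw [hd] at e
  · have h1 : Fintype.card F - 1 = 2 * Nat.card (cen v) := by omega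
    have h2 : 2 ∣ Fintype.card F + 1 := by omega
    obtain ⟨j, hj⟩ := h2
    rw [h1, hj, ← hPm, hr] at hG
    refine ⟨Fintype.card F * j * r, ?_⟩
    have hp : 0 < Nat.card ↥(P : Subgroup P2) := Nat.card_pos
    refine Nat.eq_of_mul_eq_mul_left (mul_pos two_pos hp) ?_
    linarith
  · have h1 : Fintype.card F + 1 = 2 * Nat.card (cen v) := by omega
    have h2 : 2 ∣ Fintype.card F - 1 := by omega
    obtain ⟨j, hj⟩ := h2
    rw [h1, hj, ← hPm, hr] at hG
    refine ⟨Fintype.card F * j * r, ?_⟩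
    have hp : 0 < Nat.card ↥(P : Subgroup P2) := Nat.card_pos
    refine Nat.eq_of_mul_eq_mul_left (mul_pos two_pos hp) ?_
    linarith

/-- The odd part of the torus. -/
theorem torus_facts {v : P2} (h8 : Fintype.card F % 8 = 3 ∨ Fintype.card F % 8 = 5)
    (hv1 : v ≠ 1) (hv : v * v = 1) :
    ∃ T : Subgroup P2, T ≤ cen v ∧ IsCyclic T ∧ Odd (Nat.card T) ∧
      (∀ y, y ∈ T ↔ y ∈ cen v ∧ Odd (orderOf y)) ∧
      (∀ g ∈ cen v, g ∈ T ∨ v * g ∈ T) ∧
      (Fintype.card F % 8 = 3 → 4 * Nat.card T = Fintype.card F + 1) ∧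
      (Fintype.card F % 8 = 5 → 4 * Nat.card T + 1 = Fintype.card F) := by
  have hodd : Odd (Fintype.card F) := Nat.odd_iff.2 (by omega)
  obtain ⟨hm, hc⟩ := H88.Walter.PSL.card_cen_mod h8 hv1 hv
  have hcyc := isCyclic_cen (PSL.not_isUni hodd hv1 hv)
  obtain ⟨x0, hx0⟩ := IsCyclic.exists_generator (α := cen v)
  have hord : orderOf (x0 : P2) = Nat.card (cen v) := by
    rw [Subgroup.orderOf_coe, orderOf_eq_card_of_forall_mem_zpowers hx0]
  set T := zpowers ((x0 : P2) ^ 2) with hT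
  have hle : T ≤ cen v := zpowers_le.2 (pow_mem x0.2 2)
  have hcard : Nat.card T = Nat.card (cen v) / 2 := by
    rw [hT, Nat.card_zpowers, orderOf_pow, hord, Nat.gcd_eq_right (by omega)]
  have hTodd : Odd (Nat.card T) := Nat.odd_iff.2 (by omega)
  have hmem : ∀ y, y ∈ T ↔ y ∈ cen v ∧ Odd (orderOf y) := fun y => by
    refine ⟨fun hy => ⟨hle hy, Odd.of_dvd_nat hTodd (orderOf_dvd_natCard T hy)⟩, fun ⟨hy, ho⟩ => ?_⟩
    obtain ⟨j, hj⟩ := ho
    obtain ⟨k, hk⟩ := mem_zpowers_iff.1 (hx0 ⟨y, hy⟩)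
    have hk' : (x0 : P2) ^ k = y := by simpa using congrArg Subtype.val hk
    refine mem_zpowers_iff.2 ⟨k * (j + 1 : ℕ), ?_⟩
    rw [← zpow_natCast (x0 : P2) 2, ← zpow_mul, mul_comm, mul_assoc, zpow_mul, hk', mul_comm,
      zpow_mul, zpow_natCast, zpow_natCast, ← pow_mul,
      show 2 * (j + 1) = orderOf y + 1 by omega, pow_succ, pow_orderOf_eq_one, one_mul]
  refine ⟨T, hle, hT ▸ inferInstance, hTodd, hmem, fun g hg => ?_, fun h => ?_, fun h => ?_⟩
  · have hgT : ∀ z ∈ cen v, z ^ (Nat.card (cen v) / 2) = 1 → z ∈ T := fun z hz hz1 =>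
      (hmem z).2 ⟨hz, Odd.of_dvd_nat (hcard ▸ hTodd) (orderOf_dvd_of_pow_eq_one hz1)⟩
    have hv2 : v ^ (Nat.card (cen v) / 2) = v := by
      obtain ⟨j, hj⟩ : Odd (Nat.card (cen v) / 2) := hcard ▸ hTodd
      rw [hj, pow_succ, pow_mul, pow_two, hv, one_pow, one_mul]
    have hg2 : g ^ (Nat.card (cen v) / 2) * g ^ (Nat.card (cen v) / 2) = 1 := by
      rw [← pow_add, show Nat.card (cen v) / 2 + Nat.card (cen v) / 2 = Nat.card (cen v) by omega]
      exact congrArg Subtype.val (pow_card_eq_one' (x := (⟨g, hg⟩ : cen v)))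
    rcases PSL.eq_or_eq_of_sq hodd hv1 hv (pow_mem hg _) hg2 with h | h
    · exact Or.inl (hgT g hg h)
    · refine Or.inr (hgT _ (mul_mem (mem_cen_self v) hg) ?_)
      rw [(show Commute v g from cen_comm hv1 (mem_cen_self v) hg).mul_pow, hv2, h, hv]
  · omega
  · omega

end Cfsg.Agent.H29.Ward.Psl
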