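import Cfsg.Agent.H29.Ward.Setting
import Cfsg.Agent.H27.PermFamily
import Mathlib.Algebra.Field.Shrink
import Mathlib.Data.Fintype.Shrink

/-!
# The field of Ward's theorem in `Type`
-/

set_option autoImplicit false

namespace Cfsg.Agent.H29.Ward

open Cfsg.Agent

universe u v

/-- The hypotheses of Ward's theorem, `q ≥ 5` odd, give `Hyp` over a field in `Type`. -/
theorem exists_hyp {G : Type u} [Group G] [Finite G] [IsSimpleGroup G]
    (hab : ∀ P : Sylow 2 G, ∀ a b : P, a * b = b * a)
    {F : Type v} [Field F] [Fintype F] (hodd : Odd (Fintype.card F)) (h5 : 5 ≤ Fintype.card F)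
    {t : G} (ht : orderOf t = 2)
    (hC : Nonempty (Subgroup.centralizer ({t} : Set G) ≃*
      Multiplicative (ZMod 2) × Matrix.ProjectiveSpecialLinearGroup (Fin 2) F)) :
    ∃ (F' : Type) (_ : Field F') (_ : Fintype F'),
      Fintype.card F' = Fintype.card F ∧ Hyp G F' t := by
  obtain ⟨e⟩ := hC
  letI : Fintype (Shrink.{0} F) := Fintype.ofFinite _
  have hcard : Fintype.card (Shrink.{0} F) = Fintype.card F :=
    Fintype.card_congr (equivShrink.{0} F).symm
  exact ⟨Shrink.{0} F, inferInstance, inferInstance, hcard, inferInstance, hab, ht,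
    ⟨e.trans ((MulEquiv.refl _).prodCongr
      (H27.PermFamily.pslCongr (Shrink.ringEquiv.{0} F).symm))⟩, by rwa [hcard], by rwa [hcard]⟩

end Cfsg.Agent.H29.Ward
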