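import Cfsg.Agent.H29.Ward.Torus
import Cfsg.Agent.H33.Binary.PSLTools

/-!
# An element of odd order permuting the involutions of a four group `⟨t, v⟩`
-/

set_option autoImplicit false
set_option linter.unusedSectionVars false
set_option linter.style.haveILetI false

namespace Cfsg.Agent.H29.Ward

open Subgroup Cfsg.Agent
open scoped commutatorElement

universe u

variable {G : Type u} [Group G]

theorem map_conj_centralizer_le (g x : G) :
    (centralizer ({x} : Set G)).map (MulAut.conj g).toMonoidHom ≤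
      centralizer ({g * x * g⁻¹} : Set G) := by
  rintro _ ⟨y, hy, rfl⟩
  replace hy : y ∈ centralizer ({x} : Set G) := hy
  rw [mem_centralizer_singleton_iff] at hy ⊢
  show g * y * g⁻¹ * (g * x * g⁻¹) = g * x * g⁻¹ * (g * y * g⁻¹)
  calc g * y * g⁻¹ * (g * x * g⁻¹) = g * (y * x) * g⁻¹ := by group
    _ = g * x * g⁻¹ * (g * y * g⁻¹) := by rw [hy]; group

theorem conj_mem_derived {g x y : G}
    (hy : y ∈ ⁅centralizer ({x} : Set G), centralizer ({x} : Set G)⁆) :
    g * y * g⁻¹ ∈ ⁅centralizer ({g * x * g⁻¹} : Set G), centralizer ({g * x * g⁻¹} : Set G)⁆ := by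
  refine commutator_mono (map_conj_centralizer_le g x) (map_conj_centralizer_le g x) ?_
  rw [← map_commutator]
  exact ⟨y, hy, rfl⟩

namespace Hyp

variable [Finite G] {F : Type} [Field F] [Fintype F] {t : G}
variable (h : Hyp G F t)
include h

local notation "P2" => Matrix.ProjectiveSpecialLinearGroup (Fin 2) F

/-- The embedding of the second factor of `C(t)`. -/
theorem derived_eq (e : centralizer ({t} : Set G) ≃* Multiplicative (ZMod 2) × P2) :
    ⁅centralizer ({t} : Set G), centralizer ({t} : Set G)⁆ =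
      ((centralizer ({t} : Set G)).subtype.comp
        (e.symm.toMonoidHom.comp (MonoidHom.inr (Multiplicative (ZMod 2)) P2))).range := by
  haveI := H29.Walter.isSimpleGroup h.isOddPSL
  set ψ := (centralizer ({t} : Set G)).subtype.comp
        (e.symm.toMonoidHom.comp (MonoidHom.inr (Multiplicative (ZMod 2)) P2))
  refine le_antisymm (commutator_le.2 fun a ha b hb => ?_) ?_
  · refine ⟨⁅(e ⟨a, ha⟩).2, (e ⟨b, hb⟩).2⁆, ?_⟩
    have h1 : e.symm ((1 : Multiplicative (ZMod 2)), ⁅(e ⟨a, ha⟩).2, (e ⟨b, hb⟩).2⁆) =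
        ⁅(⟨a, ha⟩ : centralizer ({t} : Set G)), ⟨b, hb⟩⁆ := by
      apply e.injective
      rw [MulEquiv.apply_symm_apply, commutatorElement_def, commutatorElement_def, map_mul,
        map_mul, map_mul, map_inv, map_inv]
      refine Prod.ext ?_ rfl
      show 1 = (e ⟨a, ha⟩).1 * (e ⟨b, hb⟩).1 * (e ⟨a, ha⟩).1⁻¹ * (e ⟨b, hb⟩).1⁻¹
      rw [mul_comm (e ⟨a, ha⟩).1, mul_inv_cancel_right, mul_inv_cancel]
    exact congrArg Subtype.val h1
  · have hperf : ⁅(⊤ : Subgroup P2), (⊤ : Subgroup P2)⁆ = ⊤ := by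
      rcases IsSimpleGroup.eq_bot_or_eq_top_of_normal (⁅(⊤ : Subgroup P2), (⊤ : Subgroup P2)⁆)
        inferInstance with hb | hb
      · exfalso
        letI : CommGroup P2 :=
          { (inferInstance : Group P2) with
            mul_comm := fun a b => by
              have h1 : ⁅a, b⁆ ∈ (⊥ : Subgroup P2) :=
                hb ▸ commutator_mem_commutator (mem_top a) (mem_top b)
              exact commutatorElement_eq_one_iff_mul_comm.1 (mem_bot.1 h1) }
        have hp : (Nat.card P2).Prime := IsSimpleGroup.prime_card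
        have h8 := H29.Walter.card_mod_eight h.isOddPSL
        rcases hp.eq_two_or_odd with h2 | h2 <;> omega
      · exact hb
    have hle : ψ.range ≤ centralizer ({t} : Set G) := by
      rintro _ ⟨b, rfl⟩; exact (e.symm (1, b)).2
    rw [MonoidHom.range_eq_map, ← hperf, map_commutator, ← MonoidHom.range_eq_map]
    exact commutator_mono hle hle

/-- An element of odd order with `t ↦ v ↦ tv`. -/
theorem exists_rotor {v : G} (hv : v * v = 1) (hv1 : v ≠ 1) (hvt : Commute v t) (hne : v ≠ t) :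
    ∃ w : G, Odd (orderOf w) ∧ w * t * w⁻¹ = v ∧ w * v * w⁻¹ = t * v := by
  classical
  haveI : Fact (Nat.Prime 2) := ⟨Nat.prime_two⟩
  obtain ⟨e⟩ := h.iso
  obtain ⟨ht2, ht1⟩ := h.apply_self e
  set ψ := (centralizer ({t} : Set G)).subtype.comp
        (e.symm.toMonoidHom.comp (MonoidHom.inr (Multiplicative (ZMod 2)) P2)) with hψ
  have hD := h.derived_eq e
  have hψinj : Function.Injective ψ := fun a b hab =>
    congrArg Prod.snd (e.symm.injective (Subtype.ext hab))
  -- two involutions of a four group of the second factor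
  obtain ⟨R⟩ : Nonempty (Sylow 2 P2) := inferInstance
  haveI hk := S0276.result (F := F) rfl h.mod_eight R
  haveI : IsMulCommutative ↥(R : Subgroup P2) := IsKleinFour.isMulCommutative
  obtain ⟨a, b, ha1, hb1, hne'⟩ : ∃ a b : ↥(R : Subgroup P2), a ≠ 1 ∧ b ≠ 1 ∧ a ≠ b := by
    haveI : Fintype ↥(R : Subgroup P2) := Fintype.ofFinite _
    obtain ⟨x, hx⟩ : ∃ x : ↥(R : Subgroup P2), x ≠ 1 := by
      refine @exists_ne _ (Finite.one_lt_card_iff_nontrivial.1 ?_) 1
      rw [IsKleinFour.card_four]; norm_num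
    obtain ⟨y, hy⟩ : ∃ y : ↥(R : Subgroup P2), y ∉ ({1, x} : Finset ↥(R : Subgroup P2)) := by
      by_contra hc
      simp only [not_exists, not_not] at hc
      have : Fintype.card ↥(R : Subgroup P2) ≤ 2 :=
        (Finset.card_le_card fun z _ => hc z).trans Finset.card_le_two
      rw [IsKleinFour.card_four'] at this
      omega
    simp only [Finset.mem_insert, Finset.mem_singleton, not_or] at hy
    exact ⟨x, y, hx, hy.1, Ne.symm hy.2⟩
  have ha2 : (a : P2) * a = 1 := congrArg Subtype.val (IsKleinFour.mul_self a)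
  have hb2 : (b : P2) * b = 1 := congrArg Subtype.val (IsKleinFour.mul_self b)
  have hab : Commute (a : P2) b := congrArg Subtype.val (mul_comm' (a := a) (b := b))
  have hψa : orderOf (ψ (a : P2)) = 2 := orderOf_eq_prime (by rw [pow_two, ← map_mul, ha2, map_one])
    fun e0 => ha1 (Subtype.ext (hψinj (by rw [e0, OneMemClass.coe_one, map_one])))
  obtain ⟨g, hg⟩ := isConj_iff.1 (h.isConj_invol hψa).symm
  have hx : orderOf (g * t * g⁻¹) = 2 := (H26.orderOf_conj_eq g t).trans h.invol
  set c := g * ψ (b : P2) * g⁻¹ with hc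
  have htD : t ∈ ⁅centralizer ({g * t * g⁻¹} : Set G), centralizer ({g * t * g⁻¹} : Set G)⁆ := by
    have := conj_mem_derived (g := g) (y := ψ (a : P2)) (x := t) (by rw [hD]; exact ⟨_, rfl⟩)
    rwa [hg] at this
  have hcD : c ∈ ⁅centralizer ({g * t * g⁻¹} : Set G), centralizer ({g * t * g⁻¹} : Set G)⁆ :=
    conj_mem_derived (by rw [hD]; exact ⟨_, rfl⟩)
  have hct : Commute c t := by
    have h1 : Commute c (g * ψ (a : P2) * g⁻¹) := by
      rw [hc]
      have := ((hab.map ψ).symm).map (MulAut.conj g)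
      simpa using this
    rwa [hg] at h1
  have hc2 : c * c = 1 := by
    rw [hc, show g * ψ (b : P2) * g⁻¹ * (g * ψ (b : P2) * g⁻¹) = g * (ψ (b : P2) * ψ (b : P2)) * g⁻¹
      by group, ← map_mul, hb2, map_one, mul_one, mul_inv_cancel]
  have hc1 : c ≠ 1 := fun e0 => hb1 (Subtype.ext (hψinj (by
    have h1 : ψ (b : P2) = 1 := conj_eq_one_iff.1 e0
    rw [h1, OneMemClass.coe_one, map_one])))
  have hctne : c ≠ t := fun e0 => hne' (Subtype.ext (hψinj (by
    have : g * ψ (b : P2) * g⁻¹ = g * ψ (a : P2) * g⁻¹ := by rw [← hc, e0, hg]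
    exact (mul_left_cancel (mul_right_cancel this)).symm)))
  -- move `c` onto `v` inside `C(t)`
  set cc : centralizer ({t} : Set G) := ⟨c, mem_centralizer_singleton_iff.2 hct.eq⟩ with hcc
  set vc : centralizer ({t} : Set G) := ⟨v, mem_centralizer_singleton_iff.2 hvt.eq⟩ with hvc
  set tc : centralizer ({t} : Set G) := ⟨t, mem_centralizer_singleton_iff.2 rfl⟩ with htc
  have hsnd : ∀ z : centralizer ({t} : Set G), (z : G) * z = 1 → (z : G) ≠ 1 → (z : G) ≠ t →
      (e z).2 ≠ 1 ∧ (e z).2 * (e z).2 = 1 := by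
    intro z hz hz1 hzt
    refine ⟨fun h2 => ?_, ?_⟩
    · rcases zmod_two_cases (e z).1 with h1 | h1
      · exact hz1 (congrArg Subtype.val (e.injective (show e z = e 1 by
          rw [map_one]; exact Prod.ext h1 h2)))
      · exact hzt (congrArg (fun y : centralizer ({t} : Set G) => (y : G))
          (e.injective (Prod.ext (h1.trans ht1.symm) (h2.trans ht2.symm)) : z = tc))
    · have := congrArg (fun y => (e y).2) (show z * z = 1 from Subtype.ext hz)
      simpa using this
  obtain ⟨hcb1, hcb2⟩ := hsnd cc hc2 hc1 hctne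
  obtain ⟨hvb1, hvb2⟩ := hsnd vc hv hv1 hne
  obtain ⟨n, hn⟩ := isConj_iff.1 (H33.Binary.isConj_invol _ _ hcb1 hcb2 hvb1 hvb2)
  set m := ψ n with hm
  have hmt : m * t * m⁻¹ = t := by
    rw [mem_centralizer_singleton_iff.1 (show m ∈ centralizer ({t} : Set G) from
      (e.symm (1, n)).2), mul_inv_cancel_right]
  set x := m * (g * t * g⁻¹) * m⁻¹ with hxdef
  have htD' : t ∈ ⁅centralizer ({x} : Set G), centralizer ({x} : Set G)⁆ := by
    have := conj_mem_derived (g := m) htD
    rwa [hmt] at this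
  have hcD' : m * c * m⁻¹ ∈ ⁅centralizer ({x} : Set G), centralizer ({x} : Set G)⁆ :=
    conj_mem_derived hcD
  have hmcv : m * c * m⁻¹ = v ∨ m * c * m⁻¹ = t * v := by
    set mc := e.symm ((1 : Multiplicative (ZMod 2)), n) with hmc
    have h2 : (e (mc * cc * mc⁻¹)).2 = (e vc).2 := by
      rw [map_mul, map_mul, map_inv, MulEquiv.apply_symm_apply]; exact hn
    rcases zmod_two_cases ((e (mc * cc * mc⁻¹)).1 * (e vc).1) with h1 | h1
    · left
      have : mc * cc * mc⁻¹ = vc := e.injective (Prod.ext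
        ((eq_inv_of_mul_eq_one_left h1).trans (inv_eq_of_mul_eq_one_left (zmod_two_mul_self _))) h2)
      exact congrArg Subtype.val this
    · right
      have : mc * cc * mc⁻¹ = tc * vc := e.injective (by
        rw [map_mul e tc vc]
        refine Prod.ext ?_ (h2.trans (by rw [Prod.snd_mul, ht2, one_mul]))
        rw [Prod.fst_mul, ht1, ← h1, mul_assoc _ (e vc).1 (e vc).1, zmod_two_mul_self, mul_one])
      exact congrArg Subtype.val this
  have hvD' : v ∈ ⁅centralizer ({x} : Set G), centralizer ({x} : Set G)⁆ := by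
    rcases hmcv with h1 | h1
    · rwa [h1] at hcD'
    · rw [h1] at hcD'
      have := mul_mem htD' hcD'
      rwa [← mul_assoc, h.mul_self, one_mul] at this
  have hx' : orderOf x = 2 := (H26.orderOf_conj_eq m _).trans hx
  have h' := h.of_invol hx'
  obtain ⟨e'⟩ := h'.iso
  set ψ' := (centralizer ({x} : Set G)).subtype.comp
        (e'.symm.toMonoidHom.comp (MonoidHom.inr (Multiplicative (ZMod 2)) P2))
  have hψ'inj : Function.Injective ψ' := fun a b hab =>
    congrArg Prod.snd (e'.symm.injective (Subtype.ext hab))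
  rw [h'.derived_eq e'] at htD' hvD'
  obtain ⟨tb, htb⟩ := htD'
  obtain ⟨vb, hvb⟩ := hvD'
  obtain ⟨r, hro, hrt, hrv⟩ := H29.Walter.exists_fuse h.isOddPSL
    (a := tb) (b := vb) (fun e0 => h.ne_one (by rw [← htb, e0, map_one]))
    (hψ'inj (by rw [map_mul, map_one, htb, h.mul_self]))
    (fun e0 => hv1 (by rw [← hvb, e0, map_one]))
    (hψ'inj (by rw [map_mul, map_one, hvb, hv]))
    (hψ'inj (by rw [map_mul, map_mul, htb, hvb]; exact hvt.eq.symm))
    (fun e0 => hne (by rw [← hvb, ← e0, htb]))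
  refine ⟨ψ' r, Odd.of_dvd_nat hro (orderOf_map_dvd _ r), ?_, ?_⟩
  · rw [← htb, ← hvb, ← map_inv, ← map_mul, ← map_mul, hrt]
  · rw [← htb, ← hvb, ← map_inv, ← map_mul, ← map_mul, hrv, map_mul]

end Hyp

end Cfsg.Agent.H29.Ward
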