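import Cfsg.Agent.H29.Ward.TorusLocal
import Cfsg.Agent.H29.Ward.PslTorus
import Cfsg.Agent.S0276
import Mathlib.GroupTheory.Transfer
import Mathlib.Algebra.Group.TypeTags.Finite

/-!
# The setting of Ward's theorem

`G` is simple with abelian Sylow 2-subgroups and `C(t) ≅ Z₂ × PSL₂(q)`, `q ≥ 5` odd.
-/

set_option autoImplicit false
set_option linter.unusedSectionVars false
set_option linter.style.haveILetI false

namespace Cfsg.Agent.H29.Ward

open Subgroup Cfsg.Agent

universe u

/-- `G` simple, abelian Sylow 2-subgroups, `C(t) ≅ Z₂ × PSL₂(F)`, `|F| ≥ 5` odd. -/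
structure Hyp (G : Type u) [Group G] [Finite G] (F : Type*) [Field F] [Fintype F] (t : G) :
    Prop where
  simple : IsSimpleGroup G
  absyl : ∀ P : Sylow 2 G, ∀ a b : P, a * b = b * a
  invol : orderOf t = 2
  iso : Nonempty (centralizer ({t} : Set G) ≃*
    Multiplicative (ZMod 2) × Matrix.ProjectiveSpecialLinearGroup (Fin 2) F)
  five : 5 ≤ Fintype.card F
  odd : Odd (Fintype.card F)

theorem zmod_two_cases (z : Multiplicative (ZMod 2)) :
    z = 1 ∨ z = Multiplicative.ofAdd (1 : ZMod 2) := by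
  revert z; decide

theorem zmod_two_ne_one : Multiplicative.ofAdd (1 : ZMod 2) ≠ 1 := by decide

theorem zmod_two_mul_self (z : Multiplicative (ZMod 2)) : z * z = 1 := by
  revert z; decide

/-- In a simple group with an abelian Sylow subgroup `S`, only `1` in `S` is fixed by `N(S)`. -/
theorem eq_one_of_fixed {G : Type u} [Group G] [Finite G] [IsSimpleGroup G] {p : ℕ}
    [Fact p.Prime] (S : Sylow p G) (hnab : ∃ a b : G, a * b ≠ b * a)
    (hS : IsMulCommutative ↥(S : Subgroup G)) {s : G} (hs : s ∈ (S : Subgroup G))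
    (hfix : ∀ n ∈ normalizer ((S : Subgroup G) : Set G), n * s * n⁻¹ = s) : s = 1 := by
  haveI := hS
  open scoped IsMulCommutative in
  let ϕ : ↥(S : Subgroup G) →* ↥(S : Subgroup G) := MonoidHom.id _
  have key : ∀ (k : ℕ) (g₀ : G), g₀⁻¹ * s ^ k * g₀ ∈ (S : Subgroup G) →
      g₀⁻¹ * s ^ k * g₀ = s ^ k := by
    intro k g₀ hmem
    obtain ⟨n, hn, hne⟩ := S.conj_eq_normalizer_conj_of_mem (s ^ k) g₀ (pow_mem hs k) hmem
    rw [hne]
    have h1 : n⁻¹ * s * n = s := by
      conv_lhs => rw [← hfix n hn]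
      group
    calc n⁻¹ * s ^ k * n = (n⁻¹ * s * n) ^ k := by
          have h2 := (conj_pow (a := n⁻¹) (b := s) (i := k)).symm
          rwa [inv_inv] at h2
      _ = s ^ k := by rw [h1]
  open scoped IsMulCommutative in
  have h := MonoidHom.transfer_eq_pow ϕ s key
  open scoped IsMulCommutative in
  rcases IsSimpleGroup.eq_bot_or_eq_top_of_normal (MonoidHom.transfer ϕ).ker inferInstance with
    hk | hk
  · obtain ⟨a, b, hab⟩ := hnab
    refine absurd ((MonoidHom.ker_eq_bot_iff _).1 hk ?_) hab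
    rw [map_mul, map_mul, mul_comm']
  · have h1 : MonoidHom.transfer ϕ s = 1 := by
      rw [← MonoidHom.mem_ker, hk]; exact mem_top s
    rw [h] at h1
    have h2 : s ^ (S : Subgroup G).index = 1 := congrArg Subtype.val h1
    obtain ⟨i, hi⟩ := S.isPGroup' ⟨s, hs⟩
    have h3 : s ^ p ^ i = 1 := congrArg Subtype.val hi
    exact orderOf_eq_one_iff.1 (Nat.eq_one_of_dvd_coprimes
      (Nat.Coprime.pow_left i ((Fact.out : p.Prime).coprime_iff_not_dvd.2 S.not_dvd_index))
      (orderOf_dvd_of_pow_eq_one h3) (orderOf_dvd_of_pow_eq_one h2))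

namespace Hyp

variable {G : Type u} [Group G] [Finite G] {F : Type} [Field F] [Fintype F] {t : G}

local notation "P2" => Matrix.ProjectiveSpecialLinearGroup (Fin 2) F

variable (h : Hyp G F t)
include h

theorem comm_two {Q : Subgroup G} (hQ : IsPGroup 2 ↥Q) {a b : G} (ha : a ∈ Q) (hb : b ∈ Q) :
    Commute a b := by
  obtain ⟨P, hP⟩ := hQ.exists_le_sylow
  exact congrArg Subtype.val (h.absyl P ⟨a, hP ha⟩ ⟨b, hP hb⟩)

theorem mod_eight : Fintype.card F % 8 = 3 ∨ Fintype.card F % 8 = 5 := by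
  obtain ⟨e⟩ := h.iso
  let ψ : P2 →* G := ((centralizer ({t} : Set G)).subtype.comp e.symm.toMonoidHom).comp
    (MonoidHom.inr _ _)
  have hψ : Function.Injective ψ := fun a b hab =>
    congrArg Prod.snd (e.symm.injective (Subtype.ext hab))
  exact Psl.mod_eight h.odd fun P a ha b hb =>
    hψ (by
      rw [map_mul, map_mul]
      exact (h.comm_two (P.isPGroup'.map ψ) (mem_map_of_mem ψ ha) (mem_map_of_mem ψ hb)).eq)

theorem isOddPSL : H10.Walter.IsOddPSL P2 :=
  ⟨F, inferInstance, inferInstance, h.five, h.mod_eight, ⟨MulEquiv.refl _⟩⟩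

theorem mul_self : t * t = 1 := by rw [← pow_two, ← h.invol, pow_orderOf_eq_one]

theorem ne_one : t ≠ 1 := H26.ne_one_of_orderOf_two h.invol

theorem nonab : ∃ a b : G, a * b ≠ b * a := by
  obtain ⟨e⟩ := h.iso
  haveI := H29.Walter.isSimpleGroup h.isOddPSL
  by_contra hc
  push Not at hc
  have hcomm : ∀ a b : P2, a * b = b * a := fun a b => by
    have h1 : e.symm (1, a) * e.symm (1, b) = e.symm (1, b) * e.symm (1, a) := Subtype.ext (hc _ _)
    rw [← map_mul, ← map_mul] at h1
    exact congrArg Prod.snd (e.symm.injective h1)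
  letI : CommGroup P2 := { (inferInstance : Group P2) with mul_comm := hcomm }
  have hp : (Nat.card P2).Prime := IsSimpleGroup.prime_card
  have h8 := H29.Walter.card_mod_eight h.isOddPSL
  rcases hp.eq_two_or_odd with h2 | h2 <;> omega

/-- The image of `t` is `(z, 1)`. -/
theorem apply_self (e : centralizer ({t} : Set G) ≃* Multiplicative (ZMod 2) × P2) :
    (e ⟨t, mem_centralizer_singleton_iff.2 rfl⟩).2 = 1 ∧
      (e ⟨t, mem_centralizer_singleton_iff.2 rfl⟩).1 = Multiplicative.ofAdd 1 := by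
  haveI := H29.Walter.isSimpleGroup h.isOddPSL
  set tc : centralizer ({t} : Set G) := ⟨t, mem_centralizer_singleton_iff.2 rfl⟩
  have h2 : (e tc).2 = 1 := by
    have hcen : (e tc).2 ∈ center P2 := mem_center_iff.2 fun b => by
      have h1 : e.symm (1, b) * tc = tc * e.symm (1, b) :=
        Subtype.ext (mem_centralizer_singleton_iff.1 (e.symm (1, b)).2)
      have := congrArg (fun x => (e x).2) h1
      simpa using this
    rcases IsSimpleGroup.eq_bot_or_eq_top_of_normal (center P2) inferInstance with hb | hb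
    · rw [hb] at hcen; exact mem_bot.1 hcen
    · exfalso
      obtain ⟨a, b, hab⟩ : ∃ a b : P2, a * b ≠ b * a := by
        by_contra hc
        push Not at hc
        letI : CommGroup P2 := { (inferInstance : Group P2) with mul_comm := hc }
        have hp : (Nat.card P2).Prime := IsSimpleGroup.prime_card
        have h8 := H29.Walter.card_mod_eight h.isOddPSL
        rcases hp.eq_two_or_odd with h2 | h2 <;> omega
      exact hab (mem_center_iff.1 (hb ▸ mem_top b) a)
  refine ⟨h2, ?_⟩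
  have : (e tc).1 ≠ 1 := fun h1 => h.ne_one (congrArg Subtype.val
    (e.injective (show e tc = e 1 by rw [map_one]; exact Prod.ext h1 h2)))
  revert this
  generalize (e tc).1 = z
  revert z; decide

theorem card_centralizer : Nat.card (centralizer ({t} : Set G)) = 2 * Nat.card P2 := by
  obtain ⟨e⟩ := h.iso
  rw [Nat.card_congr e.toEquiv, Nat.card_prod]
  simp

/-- A Sylow `2`-subgroup inside `C(t)`: elementary abelian of order eight. -/
theorem exists_sylow : ∃ S : Sylow 2 G, t ∈ (S : Subgroup G) ∧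
    (S : Subgroup G) ≤ centralizer ({t} : Set G) ∧ Nat.card ↥(S : Subgroup G) = 8 := by
  haveI : Fact (Nat.Prime 2) := ⟨Nat.prime_two⟩
  obtain ⟨S, hS⟩ := (IsPGroup.of_card (p := 2) (G := zpowers t) (n := 1) (by
    rw [Nat.card_zpowers, h.invol, pow_one])).exists_le_sylow
  have htS : t ∈ (S : Subgroup G) := hS (mem_zpowers t)
  have hle : (S : Subgroup G) ≤ centralizer ({t} : Set G) := fun x hx =>
    mem_centralizer_singleton_iff.2 (h.comm_two S.isPGroup' hx htS).eq
  refine ⟨S, htS, hle, ?_⟩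
  obtain ⟨n, hn⟩ := IsPGroup.iff_card.1 S.isPGroup'
  have hC : Nat.card ↥(S : Subgroup G) * (S : Subgroup G).relIndex (centralizer ({t} : Set G)) =
      2 * Nat.card P2 := by
    rw [← h.card_centralizer, ← relIndex_bot_left (S : Subgroup G),
      relIndex_mul_relIndex ⊥ _ _ bot_le hle, relIndex_bot_left]
  have hodd : (S : Subgroup G).relIndex (centralizer ({t} : Set G)) % 2 = 1 := by
    refine Nat.two_dvd_ne_zero.1 fun hd => S.not_dvd_index ?_
    exact hd.trans (relIndex_dvd_index_of_le hle)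
  have h8 := H29.Walter.card_mod_eight h.isOddPSL
  rw [hn] at hC ⊢
  rcases n with _ | _ | _ | _ | n
  · exfalso; omega
  · exfalso; norm_num at hC; omega
  · exfalso; norm_num at hC; omega
  · rfl
  · exfalso
    rw [show (2 : ℕ) ^ (n + 4) = 16 * 2 ^ n by rw [pow_add]; ring, mul_assoc] at hC
    omega

theorem sq_of_two {Q : Subgroup G} (hQ : IsPGroup 2 ↥Q) {x : G} (hx : x ∈ Q) : x * x = 1 := by
  haveI : Fact (Nat.Prime 2) := ⟨Nat.prime_two⟩
  obtain ⟨S, htS, hle, -⟩ := h.exists_sylow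
  obtain ⟨P, hP⟩ := hQ.exists_le_sylow
  obtain ⟨g, hg⟩ := MulAction.exists_smul_eq G P S
  have hy : g * x * g⁻¹ ∈ (S : Subgroup G) := by
    rw [← hg, Sylow.coe_subgroup_smul]; exact ⟨x, hP hx, rfl⟩
  obtain ⟨e⟩ := h.iso
  set yc : centralizer ({t} : Set G) := ⟨g * x * g⁻¹, hle hy⟩
  have hp : IsPGroup 2 ↥(((S : Subgroup G).comap (centralizer ({t} : Set G)).subtype).map
      ((MonoidHom.snd _ P2).comp e.toMonoidHom)) :=
    (S.isPGroup'.comap_of_injective _ (Subgroup.subtype_injective _)).map _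
  obtain ⟨R, hR⟩ := hp.exists_le_sylow
  have hk := S0276.result (F := F) rfl h.mod_eight R
  have h2 : (e yc).2 * (e yc).2 = 1 := by
    haveI := hk
    exact congrArg Subtype.val
      (IsKleinFour.mul_self (⟨(e yc).2, hR ⟨yc, hy, rfl⟩⟩ : ↥(R : Subgroup P2)))
  have h3 : yc * yc = 1 := by
    apply e.injective
    rw [map_mul, map_one]
    exact Prod.ext (zmod_two_mul_self _) h2
  have h4 : g * x * g⁻¹ * (g * x * g⁻¹) = 1 := congrArg Subtype.val h3
  have h5 : g * (x * x) * g⁻¹ = 1 := by rw [← h4]; group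
  exact conj_eq_one_iff.1 h5

/-- One class of involutions. -/
theorem isConj_invol {x : G} (hx : orderOf x = 2) : IsConj t x := by
  classical
  haveI : Fact (Nat.Prime 2) := ⟨Nat.prime_two⟩
  haveI := h.simple
  haveI := H29.Walter.isSimpleGroup h.isOddPSL
  obtain ⟨S, htS, hle, hS8⟩ := h.exists_sylow
  haveI hSc : IsMulCommutative ↥(S : Subgroup G) := ⟨⟨fun a b => h.absyl S a b⟩⟩
  set N := normalizer ((S : Subgroup G) : Set G) with hN
  obtain ⟨e⟩ := h.iso
  obtain ⟨htt2, htt1⟩ := h.apply_self e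
  set tc : centralizer ({t} : Set G) := ⟨t, mem_centralizer_singleton_iff.2 rfl⟩ with htc
  -- the Sylow subgroup of the second factor
  set p : centralizer ({t} : Set G) →* P2 := (MonoidHom.snd _ P2).comp e.toMonoidHom with hp
  set V := ((S : Subgroup G).subgroupOf (centralizer ({t} : Set G))).map p with hV
  have hVp : IsPGroup 2 ↥V := (S.isPGroup'.comap_of_injective _ (Subgroup.subtype_injective _)).map _
  have hcomapV : ∀ c : centralizer ({t} : Set G), p c ∈ V → (c : G) ∈ (S : Subgroup G) := by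
    rintro c ⟨d, hd, hdc⟩
    have h1 : (e (d⁻¹ * c)).2 = 1 := by
      have : p (d⁻¹ * c) = 1 := by rw [map_mul, map_inv, hdc, inv_mul_cancel]
      exact this
    have h2 : d⁻¹ * c = 1 ∨ d⁻¹ * c = tc := by
      rcases zmod_two_cases (e (d⁻¹ * c)).1 with hh | hh
      · exact Or.inl (e.injective (by rw [map_one]; exact Prod.ext hh h1))
      · exact Or.inr (e.injective (Prod.ext (hh.trans htt1.symm) (h1.trans htt2.symm)))
    rcases h2 with hh | hh
    · rw [inv_mul_eq_one.1 hh] at hd; exact hd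
    · have hc : c = d * tc := by rw [← hh, mul_inv_cancel_left]
      rw [hc]; exact mul_mem (show (d : G) ∈ (S : Subgroup G) from hd) htS
  obtain ⟨R, hR⟩ := hVp.exists_le_sylow
  have hk := S0276.result (F := F) rfl h.mod_eight R
  have hR4 : Nat.card ↥(R : Subgroup P2) = 4 := hk.card_four
  haveI := hk
  -- `V` is the whole Sylow subgroup
  have hVR : V = (R : Subgroup P2) := by
    refine eq_of_le_of_card_ge hR ?_
    rw [hR4]
    have h1 : Nat.card ↥((S : Subgroup G).subgroupOf (centralizer ({t} : Set G))) = 8 := by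
      rw [Nat.card_congr (subgroupOfEquivOfLe hle).toEquiv, hS8]
    let j : ↥((S : Subgroup G).subgroupOf (centralizer ({t} : Set G))) →
        Multiplicative (ZMod 2) × ↥V := fun d => ((e d).1, ⟨p d, ⟨d, d.2, rfl⟩⟩)
    have hj : Function.Injective j := fun a b hab => by
      simp only [j, Prod.mk.injEq] at hab
      have h3 : p a = p b := congrArg Subtype.val hab.2
      exact Subtype.ext (e.injective (Prod.ext hab.1 h3))
    have h4 := Nat.card_le_card_of_injective j hj
    rw [h1, Nat.card_prod, show Nat.card (Multiplicative (ZMod 2)) = 2 by simp] at h4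
    omega
  obtain ⟨a, b, ha, hb, ha1, hb1, hne⟩ : ∃ a b : P2, a ∈ V ∧ b ∈ V ∧ a ≠ 1 ∧ b ≠ 1 ∧ a ≠ b := by
    rw [hVR]
    haveI : Fintype ↥(R : Subgroup P2) := Fintype.ofFinite _
    obtain ⟨x, hx⟩ : ∃ x : ↥(R : Subgroup P2), x ≠ 1 := by
      refine @exists_ne _ (Finite.one_lt_card_iff_nontrivial.1 ?_) 1
      rw [hR4]; norm_num
    obtain ⟨y, hy⟩ : ∃ y : ↥(R : Subgroup P2), y ∉ ({1, x} : Finset ↥(R : Subgroup P2)) := by
      by_contra hc
      simp only [not_exists, not_not] at hc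
      have : Fintype.card ↥(R : Subgroup P2) ≤ 2 :=
        (Finset.card_le_card fun z _ => hc z).trans Finset.card_le_two
      rw [IsKleinFour.card_four'] at this
      omega
    simp only [Finset.mem_insert, Finset.mem_singleton, not_or] at hy
    exact ⟨x, y, x.2, y.2, fun e => hx (Subtype.ext e), fun e => hy.1 (Subtype.ext e),
      fun e => hy.2 (Subtype.ext e.symm)⟩
  have hVsq : ∀ z ∈ V, z * z = 1 := fun z hz =>
    congrArg Subtype.val (IsKleinFour.mul_self (⟨z, hR hz⟩ : ↥(R : Subgroup P2)))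
  haveI hRc : IsMulCommutative ↥(R : Subgroup P2) := IsKleinFour.isMulCommutative
  have hab : Commute a b :=
    congrArg Subtype.val (mul_comm' (a := (⟨a, hR ha⟩ : ↥(R : Subgroup P2))) (b := ⟨b, hR hb⟩))
  obtain ⟨n, -, hna, hnb⟩ :=
    H29.Walter.exists_fuse h.isOddPSL ha1 (hVsq a ha) hb1 (hVsq b hb) hab hne
  have hVmem : ∀ z ∈ V, z = 1 ∨ z = a ∨ z = b ∨ z = a * b := by
    intro z hz
    by_contra hcn
    simp only [not_or] at hcn
    exact hcn.2.2.2 (congrArg Subtype.val (IsKleinFour.eq_mul_of_ne_all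
      (x := (⟨a, hR ha⟩ : ↥(R : Subgroup P2))) (y := ⟨b, hR hb⟩) (z := ⟨z, hR hz⟩)
      (fun e => ha1 (congrArg Subtype.val e)) (fun e => hb1 (congrArg Subtype.val e))
      (fun e => hne (congrArg Subtype.val e)) (fun e => hcn.1 (congrArg Subtype.val e))
      (fun e => hcn.2.1 (congrArg Subtype.val e)) (fun e => hcn.2.2.1 (congrArg Subtype.val e))))
  -- the element permuting the factor
  set w : centralizer ({t} : Set G) := e.symm (1, n) with hw
  set σ : Multiplicative (ZMod 2) → P2 → G := fun z x => (e.symm (z, x) : G) with hσ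
  have hσw : ∀ z x, (w : G) * σ z x * (w : G)⁻¹ = σ z (n * x * n⁻¹) := fun z x => by
    have h1 : w * e.symm (z, x) * w⁻¹ = e.symm (z, n * x * n⁻¹) := by
      rw [hw, ← map_inv, ← map_mul, ← map_mul]; simp
    exact congrArg Subtype.val h1
  have hσS : ∀ z x, x ∈ V → σ z x ∈ (S : Subgroup G) := fun z x hx =>
    hcomapV _ (by simpa [hp] using hx)
  have hSσ : ∀ x ∈ (S : Subgroup G), ∃ z, ∃ y ∈ V, σ z y = x := fun x hx =>
    ⟨(e ⟨x, hle hx⟩).1, (e ⟨x, hle hx⟩).2, ⟨⟨x, hle hx⟩, hx, rfl⟩, by simp [hσ]⟩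
  have hnV : ∀ x ∈ V, n * x * n⁻¹ ∈ V := by
    intro x hx
    rcases hVmem x hx with rfl | rfl | rfl | rfl
    · simp [one_mem]
    · rw [hna]; exact hb
    · rw [hnb]; exact mul_mem ha hb
    · rw [show n * (a * b) * n⁻¹ = n * a * n⁻¹ * (n * b * n⁻¹) by group, hna, hnb]
      exact mul_mem hb (mul_mem ha hb)
  have hwN : (w : G) ∈ N := by
    have h1 : ∀ x ∈ (S : Subgroup G), (w : G) * x * (w : G)⁻¹ ∈ (S : Subgroup G) := fun x hx => by
      obtain ⟨z, y, hy, rfl⟩ := hSσ x hx
      rw [hσw]; exact hσS _ _ (hnV y hy)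
    have h2 : (S : Subgroup G).map (MulAut.conj (w : G)).toMonoidHom = S := by
      refine eq_of_le_of_card_ge ?_ (le_of_eq ?_)
      · rintro _ ⟨x, hx, rfl⟩; exact h1 x hx
      · rw [card_map_of_injective (MulAut.conj (w : G)).injective]
    refine mem_normalizer_iff.2 fun x => ⟨h1 x, fun hx => ?_⟩
    obtain ⟨y, hy, hye⟩ := h2.ge hx
    have hyx : y = x := by simpa using hye
    rwa [← hyx]
  -- the orbit of `t`
  set O : Set G := {y | ∃ m ∈ N, m * t * m⁻¹ = y} with hO
  have hinv : ∀ m ∈ N, ∀ y, m * y * m⁻¹ ∈ O ↔ y ∈ O := fun m hm y => by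
    constructor
    · rintro ⟨k, hk, hke⟩
      refine ⟨m⁻¹ * k, mul_mem (inv_mem hm) hk, ?_⟩
      rw [show m⁻¹ * k * t * (m⁻¹ * k)⁻¹ = m⁻¹ * (k * t * k⁻¹) * m by group, hke]; group
    · rintro ⟨k, hk, rfl⟩
      exact ⟨m * k, mul_mem hm hk, by group⟩
  have hOS : ∀ y ∈ O, y ∈ (S : Subgroup G) := by
    rintro y ⟨m, hm, rfl⟩; exact (mem_normalizer_iff.1 hm t).1 htS
  have hO1 : (1 : G) ∉ O := by
    rintro ⟨m, -, hm⟩; exact h.ne_one (conj_eq_one_iff.1 hm)
  have hoddO : Odd (Nat.card O) := by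
    let f : ↥N → O := fun m => ⟨(m : G) * t * (m : G)⁻¹, m, m.2, rfl⟩
    let C := (centralizer ({t} : Set G)).subgroupOf N
    let g : ↥N ⧸ C → O := Quotient.lift f fun a b hab => Subtype.ext (by
      have h1 : a⁻¹ * b ∈ C := QuotientGroup.leftRel_apply.1 hab
      have h2 : ((a : G)⁻¹ * b) * t = t * ((a : G)⁻¹ * b) := mem_centralizer_singleton_iff.1 h1
      show (a : G) * t * (a : G)⁻¹ = (b : G) * t * (b : G)⁻¹
      calc (a : G) * t * (a : G)⁻¹
          = (a : G) * (t * ((a : G)⁻¹ * b)) * (b : G)⁻¹ := by group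
        _ = (b : G) * t * (b : G)⁻¹ := by rw [← h2]; group)
    have hg : Function.Bijective g := by
      refine ⟨?_, ?_⟩
      · rintro ⟨a⟩ ⟨b⟩ hab
        refine Quotient.sound (QuotientGroup.leftRel_apply.2 ?_)
        have h1 : (a : G) * t * (a : G)⁻¹ = (b : G) * t * (b : G)⁻¹ := congrArg Subtype.val hab
        show (((a⁻¹ * b : ↥N)) : G) ∈ centralizer ({t} : Set G)
        rw [mem_centralizer_singleton_iff]
        push_cast
        calc (a : G)⁻¹ * b * t = (a : G)⁻¹ * ((b : G) * t * (b : G)⁻¹) * b := by group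
          _ = t * ((a : G)⁻¹ * b) := by rw [← h1]; group
      · rintro ⟨_, m, hm, rfl⟩
        exact ⟨Quotient.mk _ ⟨m, hm⟩, rfl⟩
    rw [← Nat.card_congr (Equiv.ofBijective g hg), ← index]
    exact Odd.of_dvd_nat (Nat.odd_iff.2 (Nat.two_dvd_ne_zero.1 S.not_dvd_index))
      ((relIndex_dvd_of_le_left N hle).trans
        (relIndex_dvd_index_of_le (le_normalizer : (S : Subgroup G) ≤ N)))
  have htO : t ∈ O := ⟨1, one_mem _, by group⟩
  obtain ⟨z₁, hz₁, hzcases⟩ : ∃ z₁ : Multiplicative (ZMod 2), z₁ ≠ 1 ∧ ∀ z, z = 1 ∨ z = z₁ :=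
    ⟨Multiplicative.ofAdd 1, zmod_two_ne_one, zmod_two_cases⟩
  have htσ : σ z₁ 1 = t := by
    have hz1' : (e tc).1 = z₁ := by
      rw [htt1]
      rcases hzcases (Multiplicative.ofAdd 1) with hh | hh
      · exact absurd hh zmod_two_ne_one
      · exact hh
    have : e.symm (z₁, 1) = tc := by
      apply e.injective; rw [MulEquiv.apply_symm_apply]; exact Prod.ext hz1'.symm htt2.symm
    exact congrArg Subtype.val this
  have hσ11 : σ 1 1 = 1 := by
    show ((e.symm (1, 1) : centralizer ({t} : Set G)) : G) = 1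
    rw [show ((1, 1) : Multiplicative (ZMod 2) × P2) = 1 from rfl, map_one, OneMemClass.coe_one]
  have hσinj : ∀ z x z' x', σ z x = σ z' x' → z = z' ∧ x = x' := fun z x z' x' he =>
    ⟨congrArg Prod.fst (e.symm.injective (Subtype.ext he)),
      congrArg Prod.snd (e.symm.injective (Subtype.ext he))⟩
  -- membership in the orbit is constant on the three nontrivial elements of `V`
  have hcyc : ∀ z, (σ z a ∈ O ↔ σ z b ∈ O) ∧ (σ z b ∈ O ↔ σ z (a * b) ∈ O) := fun z =>
    ⟨by rw [← hna, ← hσw, hinv _ hwN], by rw [← hnb, ← hσw, hinv _ hwN]⟩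
  have hmemO : ∀ y, y ∈ O → ∃ z, y = σ z 1 ∨ (σ z a ∈ O ∧ (y = σ z a ∨ y = σ z b ∨ y = σ z (a * b))) := by
    intro y hy
    obtain ⟨z, x, hx, rfl⟩ := hSσ y (hOS y hy)
    refine ⟨z, ?_⟩
    rcases hVmem x hx with rfl | rfl | rfl | rfl
    · exact Or.inl rfl
    · exact Or.inr ⟨hy, Or.inl rfl⟩
    · exact Or.inr ⟨(hcyc z).1.2 hy, Or.inr (Or.inl rfl)⟩
    · exact Or.inr ⟨(hcyc z).1.2 ((hcyc z).2.2 hy), Or.inr (Or.inr rfl)⟩
  have habne : a * b ≠ 1 ∧ a * b ≠ a ∧ a * b ≠ b :=
    ⟨fun e => hne (by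
        have := mul_eq_one_iff_eq_inv.1 e
        rw [this, inv_eq_of_mul_eq_one_left (hVsq b hb)]),
      fun e => hb1 (mul_left_cancel (e.trans (mul_one a).symm)),
      fun e => ha1 (mul_right_cancel (e.trans (one_mul b).symm))⟩
  have hall : ∀ z, σ z a ∈ O := by
    by_contra hc
    push Not at hc
    obtain ⟨z₀, hz₀⟩ := hc
    by_cases hz : ∃ z, σ z a ∈ O
    · obtain ⟨z, hz⟩ := hz
      have hzz : z ≠ z₀ := fun e => hz₀ (e ▸ hz)
      have hOeq : O = ({t, σ z a, σ z b, σ z (a * b)} : Finset G) := by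
        ext y
        simp only [Finset.coe_insert, Finset.coe_singleton, Set.mem_insert_iff, Set.mem_singleton_iff]
        constructor
        · intro hy
          obtain ⟨z', hy'⟩ := hmemO y hy
          rcases hy' with rfl | ⟨hz', hy'⟩
          · rcases hzcases z' with rfl | rfl
            · rw [hσ11] at hy; exact absurd hy hO1
            · exact Or.inl htσ
          · have hzz' : z' = z := by
              rcases hzcases z' with h1 | h1 <;> rcases hzcases z with h2 | h2 <;>
                rcases hzcases z₀ with h3 | h3 <;>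
                first
                  | exact h1.trans h2.symm
                  | exact absurd (h2.trans h3.symm) hzz
                  | exact absurd (h1.trans h3.symm ▸ hz') hz₀
            subst hzz'
            exact Or.inr hy'
        · rintro (rfl | rfl | rfl | rfl)
          · exact htO
          · exact hz
          · exact (hcyc z).1.1 hz
          · exact (hcyc z).2.1 ((hcyc z).1.1 hz)
      have h4 : Nat.card O = 4 := by
        rw [hOeq, Nat.card_coe_set_eq, Set.ncard_coe_finset]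
        have d1 : t ≠ σ z a := fun e => ha1 (hσinj _ _ _ _ (htσ.trans e)).2.symm
        have d2 : t ≠ σ z b := fun e => hb1 (hσinj _ _ _ _ (htσ.trans e)).2.symm
        have d3 : t ≠ σ z (a * b) := fun e => habne.1 (hσinj _ _ _ _ (htσ.trans e)).2.symm
        have d4 : σ z a ≠ σ z b := fun e => hne (hσinj _ _ _ _ e).2
        have d5 : σ z a ≠ σ z (a * b) := fun e => habne.2.1 (hσinj _ _ _ _ e).2.symm
        have d6 : σ z b ≠ σ z (a * b) := fun e => habne.2.2 (hσinj _ _ _ _ e).2.symm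
        simp [d1, d2, d3, d4, d5, d6]
      rw [h4] at hoddO
      exact absurd hoddO (by decide)
    · push Not at hz
      refine h.ne_one (eq_one_of_fixed S h.nonab hSc htS fun m hm => ?_)
      obtain ⟨z', hy'⟩ := hmemO (m * t * m⁻¹) ⟨m, hm, rfl⟩
      rcases hy' with hy' | ⟨hz', -⟩
      · rcases hzcases z' with rfl | rfl
        · rw [hσ11] at hy'; exact absurd (conj_eq_one_iff.1 hy') h.ne_one
        · rw [hy', htσ]
      · exact absurd hz' (hz z')
  -- conclusion
  obtain ⟨Q, hQ⟩ := (IsPGroup.of_card (p := 2) (G := zpowers x) (n := 1) (by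
    rw [Nat.card_zpowers, hx, pow_one])).exists_le_sylow
  obtain ⟨g, hg⟩ := MulAction.exists_smul_eq G Q S
  have hy : g * x * g⁻¹ ∈ (S : Subgroup G) := by
    rw [← hg, Sylow.coe_subgroup_smul]; exact ⟨x, hQ (mem_zpowers x), rfl⟩
  have hyO : g * x * g⁻¹ ∈ O := by
    obtain ⟨z, y, hy', hye⟩ := hSσ _ hy
    rw [← hye]
    rcases hVmem y hy' with rfl | rfl | rfl | rfl
    · rcases hzcases z with rfl | rfl
      · rw [hσ11] at hye
        exact absurd (conj_eq_one_iff.1 hye.symm) (H26.ne_one_of_orderOf_two hx)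
      · rw [htσ]; exact htO
    · exact hall z
    · exact (hcyc z).1.1 (hall z)
    · exact (hcyc z).2.1 ((hcyc z).1.1 (hall z))
  obtain ⟨m, -, hme⟩ := hyO
  refine isConj_iff.2 ⟨g⁻¹ * m, ?_⟩
  rw [show g⁻¹ * m * t * (g⁻¹ * m)⁻¹ = g⁻¹ * (m * t * m⁻¹) * g by group, hme]; group

/-- The hypotheses hold at every involution. -/
theorem of_invol {x : G} (hx : orderOf x = 2) : Hyp G F x := by
  obtain ⟨g, hg⟩ := isConj_iff.1 (h.isConj_invol hx)
  obtain ⟨e⟩ := h.iso
  have hmap : (centralizer ({t} : Set G)).map (MulAut.conj g).toMonoidHom =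
      centralizer ({x} : Set G) := by
    rw [← hg]
    ext y
    simp only [mem_map, MulEquiv.coe_toMonoidHom, MulAut.conj_apply, mem_centralizer_singleton_iff]
    constructor
    · rintro ⟨c, hc, rfl⟩
      calc g * c * g⁻¹ * (g * t * g⁻¹) = g * (c * t) * g⁻¹ := by group
        _ = g * t * g⁻¹ * (g * c * g⁻¹) := by rw [hc]; group
    · intro hy
      refine ⟨g⁻¹ * y * g, ?_, by group⟩
      calc g⁻¹ * y * g * t = g⁻¹ * (y * (g * t * g⁻¹)) * g := by group
        _ = t * (g⁻¹ * y * g) := by rw [hy]; group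
  refine ⟨h.simple, h.absyl, hx, ⟨?_⟩, h.five, h.odd⟩
  exact ((MulEquiv.subgroupCongr hmap.symm).trans
    ((centralizer ({t} : Set G)).equivMapOfInjective _ (MulAut.conj g).injective).symm).trans e

end Hyp

end Cfsg.Agent.H29.Ward
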