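import Cfsg.Agent.H29.Ward.Setting

/-!
# The torus `K = O(C(W))` of a four group `W ∋ t`

`K` is cyclic of order `(q+1)/4` (`q ≡ 3 mod 8`) or `(q-1)/4` (`q ≡ 5 mod 8`), some involution
centralising `W` inverts it, and for `y ∈ K`, `y ≠ 1`, `C(y) ∩ C(s) ≤ W K` for the involutions of
`W`, so `TorusCfg.cases` describes `C(y)`.
-/

set_option autoImplicit false
set_option linter.unusedSectionVars false
set_option linter.style.haveILetI false

namespace Cfsg.Agent.H29.Ward

open Subgroup Cfsg.Agent Cfsg.Agent.Linear.Dickson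

universe u

variable {G : Type u} [Group G]

/-- The four group of two commuting involutions. -/
def fourW (t v : G) : Subgroup G :=
  closure ({t, v} : Set G)

/-- The odd part of `C(⟨t, v⟩)`. -/
def torusK (t v : G) : Subgroup G :=
  closure {x : G | x ∈ centralizer ({t, v} : Set G) ∧ Odd (orderOf x)}

theorem mem_centralizer_pair {t v x : G} :
    x ∈ centralizer ({t, v} : Set G) ↔ Commute x t ∧ Commute x v := by
  constructor
  · intro hx
    exact ⟨(hx t (Or.inl rfl)).symm, (hx v (Or.inr rfl)).symm⟩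
  · rintro ⟨h1, h2⟩ r (rfl | rfl)
    · exact h1.symm
    · exact h2.symm

theorem isKleinFour_fourW [Finite G] {t v : G} (ht : t * t = 1) (hv : v * v = 1)
    (htv : Commute t v) (ht1 : t ≠ 1) (hv1 : v ≠ 1) (hne : t ≠ v) :
    IsKleinFour ↥(fourW t v) := by
  classical
  have hmem : ∀ g, g ∈ fourW t v ↔ g = 1 ∨ g = t ∨ g = v ∨ g = t * v := by
    refine fun g => ⟨H29.Walter.mem_closure_pair_cases ht hv htv, ?_⟩
    rintro (rfl | rfl | rfl | rfl)
    · exact one_mem _
    · exact subset_closure (Or.inl rfl)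
    · exact subset_closure (Or.inr rfl)
    · exact mul_mem (subset_closure (Or.inl rfl)) (subset_closure (Or.inr rfl))
  have hsq : ∀ g ∈ fourW t v, g * g = 1 := by
    intro g hg
    rcases (hmem g).1 hg with rfl | rfl | rfl | rfl
    · exact one_mul 1
    · exact ht
    · exact hv
    · rw [mul_assoc, ← mul_assoc v t v, ← htv.eq, mul_assoc t v v, hv, mul_one, ht]
  have hset : (fourW t v : Set G) = (({1, t, v, t * v} : Finset G) : Set G) := by
    ext g; simp [hmem]
  have hcard : Nat.card ↥(fourW t v) = 4 := by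
    show Nat.card ↥((fourW t v : Subgroup G) : Set G) = 4
    rw [hset, Nat.card_coe_set_eq, Set.ncard_coe_finset]
    have h1 : t * v ≠ 1 := fun e => hne (by
      rw [eq_inv_of_mul_eq_one_left e, inv_eq_of_mul_eq_one_left hv])
    have h2 : t * v ≠ t := fun e => hv1 (mul_left_cancel (e.trans (mul_one t).symm))
    have h3 : t * v ≠ v := fun e => ht1 (mul_right_cancel (e.trans (one_mul v).symm))
    simp [ht1.symm, hv1.symm, h1.symm, h2.symm, h3.symm, hne]
  haveI : Nontrivial ↥(fourW t v) :=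
    ⟨⟨t, (hmem t).2 (by simp)⟩, 1, fun e => ht1 (congrArg Subtype.val e)⟩
  refine ⟨hcard, ?_⟩
  refine (Monoid.exponent_eq_prime_iff Nat.prime_two).2 fun g hg1 => ?_
  exact orderOf_eq_prime (Subtype.ext (by rw [pow_two]; exact hsq g g.2)) hg1

theorem torusK_congr {t v t' v' : G}
    (h : centralizer ({t, v} : Set G) = centralizer ({t', v'} : Set G)) :
    torusK t v = torusK t' v' := by
  rw [torusK, torusK, h]

namespace Hyp

variable [Finite G] {F : Type} [Field F] [Fintype F] {t : G}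
variable (h : Hyp G F t)
include h

local notation "P2" => Matrix.ProjectiveSpecialLinearGroup (Fin 2) F

/-- The torus seen in `C(t) ≅ Z₂ × PSL₂(q)`. -/
theorem exists_model {v : G} (hv : v * v = 1) (hv1 : v ≠ 1) (hvt : Commute v t) (hne : v ≠ t) :
    ∃ (e : centralizer ({t} : Set G) ≃* Multiplicative (ZMod 2) × P2) (vb : P2) (T : Subgroup P2),
      vb ≠ 1 ∧ vb * vb = 1 ∧
      (e ⟨v, mem_centralizer_singleton_iff.2 hvt.eq⟩).2 = vb ∧
      T ≤ cen vb ∧ IsCyclic T ∧ Odd (Nat.card T) ∧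
      (∀ y, y ∈ T ↔ y ∈ cen vb ∧ Odd (orderOf y)) ∧
      (∀ g ∈ cen vb, g ∈ T ∨ vb * g ∈ T) ∧
      (Fintype.card F % 8 = 3 → 4 * Nat.card T = Fintype.card F + 1) ∧
      (Fintype.card F % 8 = 5 → 4 * Nat.card T + 1 = Fintype.card F) ∧
      torusK t v = (T.map ((centralizer ({t} : Set G)).subtype.comp
        (e.symm.toMonoidHom.comp (MonoidHom.inr (Multiplicative (ZMod 2)) P2)))) := by
  obtain ⟨e⟩ := h.iso
  obtain ⟨ht2, ht1⟩ := h.apply_self e
  set vc : centralizer ({t} : Set G) := ⟨v, mem_centralizer_singleton_iff.2 hvt.eq⟩ with hvc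
  have hvc2 : vc * vc = 1 := Subtype.ext hv
  have hvb : (e vc).2 * (e vc).2 = 1 := by
    have := congrArg (fun x => (e x).2) hvc2
    simpa using this
  have hvb1 : (e vc).2 ≠ 1 := fun h2 => by
    rcases zmod_two_cases (e vc).1 with h1 | h1
    · exact hv1 (congrArg Subtype.val (e.injective (show e vc = e 1 by
        rw [map_one]; exact Prod.ext h1 h2)))
    · exact hne (congrArg (fun x : centralizer ({t} : Set G) => (x : G))
        (e.injective (Prod.ext (h1.trans ht1.symm) (h2.trans ht2.symm)) :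
          vc = ⟨t, mem_centralizer_singleton_iff.2 rfl⟩))
  obtain ⟨T, hT, hcyc, hTodd, hmem, hdec, h3, h5⟩ := Psl.torus_facts h.mod_eight hvb1 hvb
  refine ⟨e, (e vc).2, T, hvb1, hvb, rfl, hT, hcyc, hTodd, hmem, hdec, h3, h5, ?_⟩
  refine le_antisymm ((closure_le _).2 ?_) ?_
  · rintro x ⟨hx, hxo⟩
    obtain ⟨hxt, hxv⟩ := mem_centralizer_pair.1 hx
    set xc : centralizer ({t} : Set G) := ⟨x, mem_centralizer_singleton_iff.2 hxt.eq⟩ with hxc
    have hodd : Odd (orderOf (e xc)) := by
      rw [MulEquiv.orderOf_eq, ← Subgroup.orderOf_coe]; exact hxo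
    have h1 : (e xc).1 = 1 := by
      obtain ⟨j, hj⟩ := hodd
      have := congrArg Prod.fst (pow_orderOf_eq_one (e xc))
      rwa [Prod.pow_fst, hj, pow_succ, pow_mul, pow_two, zmod_two_mul_self, one_pow, one_mul] at this
    have h2o : Odd (orderOf (e xc).2) := Odd.of_dvd_nat hodd (orderOf_snd_dvd_orderOf)
    have h2 : (e xc).2 ∈ T := by
      refine (hmem _).2 ⟨?_, h2o⟩
      by_cases hh : (e xc).2 * (e xc).2 = 1
      · rw [H29.Walter.coprime_two_of_odd h2o hh]; exact one_mem _
      refine Psl.mem_cen_of_commute h.odd hvb1 hvb ?_ hh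
      have h4 : xc * vc = vc * xc := Subtype.ext hxv.eq
      have := congrArg (fun z => (e z).2) h4
      show (e xc).2 * (e vc).2 = (e vc).2 * (e xc).2
      simpa using this
    refine ⟨_, h2, ?_⟩
    have : e.symm ((1 : Multiplicative (ZMod 2)), (e xc).2) = xc := by
      apply e.injective; rw [MulEquiv.apply_symm_apply]; exact Prod.ext h1.symm rfl
    exact congrArg Subtype.val this
  · rintro _ ⟨b, hb, rfl⟩
    refine subset_closure ⟨mem_centralizer_pair.2 ⟨?_, ?_⟩, ?_⟩
    · exact mem_centralizer_singleton_iff.1 (e.symm (1, b)).2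
    · have h4 : e.symm (1, b) * vc = vc * e.symm (1, b) := by
        apply e.injective
        rw [map_mul, map_mul, MulEquiv.apply_symm_apply]
        exact Prod.ext (mul_comm _ _)
          (cen_comm hvb1 ((hmem b).1 hb).1 (mem_cen_self _))
      exact congrArg Subtype.val h4
    · exact Odd.of_dvd_nat ((hmem b).1 hb).2 (orderOf_map_dvd _ b)

/-- Order and shape of the torus. -/
theorem torusK_facts {v : G} (hv : v * v = 1) (hv1 : v ≠ 1) (hvt : Commute v t) (hne : v ≠ t) :
    IsCyclic ↥(torusK t v) ∧ Odd (Nat.card ↥(torusK t v)) ∧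
      torusK t v ≤ centralizer ({t, v} : Set G) ∧
      (Fintype.card F % 8 = 3 → 4 * Nat.card ↥(torusK t v) = Fintype.card F + 1) ∧
      (Fintype.card F % 8 = 5 → 4 * Nat.card ↥(torusK t v) + 1 = Fintype.card F) := by
  obtain ⟨e, vb, T, -, -, -, -, hcyc, hodd, -, -, h3, h5, hK⟩ := h.exists_model hv hv1 hvt hne
  set ψ := (centralizer ({t} : Set G)).subtype.comp
        (e.symm.toMonoidHom.comp (MonoidHom.inr (Multiplicative (ZMod 2)) P2))
  have hψ : Function.Injective ψ := fun a b hab =>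
    congrArg Prod.snd (e.symm.injective (Subtype.ext hab))
  have hcard : Nat.card ↥(torusK t v) = Nat.card ↥T := by rw [hK, card_map_of_injective hψ]
  refine ⟨?_, hcard ▸ hodd, (closure_le _).2 fun x hx => hx.1, fun h8 => hcard ▸ h3 h8,
    fun h8 => hcard ▸ h5 h8⟩
  rw [hK]
  exact isCyclic_of_surjective (T.equivMapOfInjective ψ hψ).toMonoidHom
    (T.equivMapOfInjective ψ hψ).surjective

/-- Some involution centralising `t` and `v`, outside `⟨t, v⟩`, inverts the torus. -/
theorem exists_inverter {v : G} (hv : v * v = 1) (hv1 : v ≠ 1) (hvt : Commute v t) (hne : v ≠ t) :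
    ∃ u : G, u * u = 1 ∧ Commute u t ∧ Commute u v ∧ u ∉ fourW t v ∧
      ∀ k ∈ torusK t v, u * k * u⁻¹ = k⁻¹ := by
  haveI : Fact (Nat.Prime 2) := ⟨Nat.prime_two⟩
  haveI hk := isKleinFour_fourW h.mul_self hv hvt.symm h.ne_one hv1 (Ne.symm hne)
  obtain ⟨e, vb, T, hvb1, hvb, hvbe, -, -, -, hmem, -, -, -, hK⟩ := h.exists_model hv hv1 hvt hne
  obtain ⟨ht2, ht1⟩ := h.apply_self e
  obtain ⟨S₀, -, -, hS8⟩ := h.exists_sylow
  obtain ⟨S, hS⟩ := (IsPGroup.of_card (p := 2) (G := ↥(fourW t v)) (n := 2)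
    (by rw [IsKleinFour.card_four]; rfl)).exists_le_sylow
  have hcard : Nat.card ↥(S : Subgroup G) = 8 := by
    rw [S.card_eq_multiplicity, ← S₀.card_eq_multiplicity, hS8]
  obtain ⟨u, huS, huW⟩ : ∃ u ∈ (S : Subgroup G), u ∉ fourW t v := by
    by_contra hc
    push Not at hc
    have := card_le_of_le (hc : (S : Subgroup G) ≤ fourW t v)
    rw [hcard, IsKleinFour.card_four] at this
    omega
  have hu2 := h.sq_of_two S.isPGroup' huS
  have htS : t ∈ (S : Subgroup G) := hS (subset_closure (Or.inl rfl))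
  have hvS : v ∈ (S : Subgroup G) := hS (subset_closure (Or.inr rfl))
  have hut := h.comm_two S.isPGroup' huS htS
  have huv := h.comm_two S.isPGroup' huS hvS
  refine ⟨u, hu2, hut, huv, huW, fun k hk => ?_⟩
  set vc : centralizer ({t} : Set G) := ⟨v, mem_centralizer_singleton_iff.2 hvt.eq⟩
  set uc : centralizer ({t} : Set G) := ⟨u, mem_centralizer_singleton_iff.2 hut.eq⟩ with huc
  set tc : centralizer ({t} : Set G) := ⟨t, mem_centralizer_singleton_iff.2 rfl⟩
  have hcb : Commute (e uc).2 vb := by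
    have h4 : uc * vc = vc * uc := Subtype.ext huv.eq
    have := congrArg (fun z => (e z).2) h4
    rw [← hvbe]
    show (e uc).2 * (e vc).2 = (e vc).2 * (e uc).2
    simpa using this
  have hu2b : (e uc).2 * (e uc).2 = 1 := by
    have := congrArg (fun z => (e z).2) (show uc * uc = 1 from Subtype.ext hu2)
    simpa using this
  have hcases : ∀ x : centralizer ({t} : Set G), (e x).2 = 1 → x = 1 ∨ x = tc := fun x hx => by
    rcases zmod_two_cases (e x).1 with h1 | h1
    · exact Or.inl (e.injective (by rw [map_one]; exact Prod.ext h1 hx))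
    · exact Or.inr (e.injective (Prod.ext (h1.trans ht1.symm) (hx.trans ht2.symm)))
  have htW : t ∈ fourW t v := subset_closure (Or.inl rfl)
  have hvW : v ∈ fourW t v := subset_closure (Or.inr rfl)
  have hu1b : (e uc).2 ≠ 1 := fun h1 => huW (by
    rcases hcases uc h1 with hh | hh
    · rw [show u = 1 from congrArg Subtype.val hh]; exact one_mem _
    · rw [show u = t from congrArg Subtype.val hh]; exact htW)
  have huvb : (e uc).2 ≠ vb := fun h1 => huW (by
    have h6 : (e (uc * vc)).2 = 1 := by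
      rw [map_mul, Prod.snd_mul, h1, hvbe, hvb]
    rcases hcases _ h6 with hh | hh
    · have h7 : u * v = 1 := congrArg Subtype.val hh
      rw [eq_inv_of_mul_eq_one_left h7]; exact inv_mem hvW
    · have h7 : u * v = t := congrArg Subtype.val hh
      rw [show u = t * v⁻¹ by rw [← h7, mul_inv_cancel_right]]; exact mul_mem htW (inv_mem hvW))
  rw [hK] at hk
  obtain ⟨b, hb, rfl⟩ := hk
  have hinv := (H88.Walter.PSL.inverts h.odd hvb1 hvb hcb hu2b hu1b huvb).2 b ((hmem b).1 hb).1
  have h9 : uc * e.symm (1, b) * uc⁻¹ = (e.symm (1, b))⁻¹ := by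
    apply e.injective
    rw [map_mul, map_mul, map_inv, map_inv, MulEquiv.apply_symm_apply]
    refine Prod.ext ?_ hinv
    show (e uc).1 * 1 * (e uc).1⁻¹ = 1⁻¹
    rw [mul_one, mul_inv_cancel, inv_one]
  exact congrArg Subtype.val h9

/-- `C(y) ∩ C(t) ≤ W K` for `y ∈ K`, `y ≠ 1`, as products. -/
theorem mem_of_commute_self {v : G} (hv : v * v = 1) (hv1 : v ≠ 1) (hvt : Commute v t)
    (hne : v ≠ t) {y g : G} (hy : y ∈ torusK t v) (hy1 : y ≠ 1) (hgy : Commute g y)
    (hgt : Commute g t) : ∃ s ∈ fourW t v, ∃ k ∈ torusK t v, g = s * k := by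
  obtain ⟨e, vb, T, hvb1, hvb, hvbe, -, -, hodd, hmem, hdec, -, -, hK⟩ := h.exists_model hv hv1 hvt hne
  obtain ⟨ht2, ht1⟩ := h.apply_self e
  rw [hK] at hy ⊢
  obtain ⟨b, hb, rfl⟩ := hy
  set gc : centralizer ({t} : Set G) := ⟨g, mem_centralizer_singleton_iff.2 hgt.eq⟩
  set vc : centralizer ({t} : Set G) := ⟨v, mem_centralizer_singleton_iff.2 hvt.eq⟩
  set tc : centralizer ({t} : Set G) := ⟨t, mem_centralizer_singleton_iff.2 rfl⟩
  have hb1 : b ≠ 1 := fun e0 => hy1 (by rw [e0, map_one])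
  have hbb : b * b ≠ 1 := fun e0 => hb1 (H29.Walter.coprime_two_of_odd ((hmem b).1 hb).2 e0)
  have hcb : Commute (e gc).2 b := by
    have h4 : gc * e.symm (1, b) = e.symm (1, b) * gc := Subtype.ext hgy.eq
    have := congrArg (fun z => (e z).2) h4
    show (e gc).2 * b = b * (e gc).2
    simpa using this
  have hg : (e gc).2 ∈ cen vb := Psl.mem_cen_of_commute_elt h.odd hvb1 hvb ((hmem b).1 hb).1 hbb hcb
  have htW : t ∈ fourW t v := subset_closure (Or.inl rfl)
  have hvW : v ∈ fourW t v := subset_closure (Or.inr rfl)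
  -- write `g = s ψ(k)`
  suffices hs : ∃ (s : centralizer ({t} : Set G)) (k : P2), k ∈ T ∧ (s : G) ∈ fourW t v ∧
      gc = s * e.symm (1, k) by
    obtain ⟨s, k, hk, hs, hgk⟩ := hs
    exact ⟨s, hs, _, ⟨k, hk, rfl⟩, congrArg Subtype.val hgk⟩
  have hz : ∀ z : Multiplicative (ZMod 2), ((e.symm (z, 1) : centralizer ({t} : Set G)) : G) ∈
      fourW t v := fun z => by
    rcases zmod_two_cases z with rfl | rfl
    · rw [show ((1 : Multiplicative (ZMod 2)), (1 : P2)) = 1 from rfl, map_one]; exact one_mem _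
    · have : e.symm (Multiplicative.ofAdd 1, 1) = tc := by
        apply e.injective; rw [MulEquiv.apply_symm_apply]; exact Prod.ext ht1.symm ht2.symm
      rw [this]; exact htW
  rcases hdec _ hg with hT | hT
  · refine ⟨e.symm ((e gc).1, 1), (e gc).2, hT, hz _, e.injective ?_⟩
    rw [map_mul, MulEquiv.apply_symm_apply, MulEquiv.apply_symm_apply]
    exact Prod.ext (mul_one _).symm (one_mul _).symm
  · refine ⟨e.symm ((e gc).1 * (e vc).1⁻¹, 1) * vc, vb * (e gc).2, hT, mul_mem (hz _) hvW,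
      e.injective ?_⟩
    rw [map_mul, map_mul, MulEquiv.apply_symm_apply, MulEquiv.apply_symm_apply]
    refine Prod.ext ?_ ?_
    · show (e gc).1 = (e gc).1 * (e vc).1⁻¹ * (e vc).1 * 1
      rw [inv_mul_cancel_right, mul_one]
    · show (e gc).2 = 1 * (e vc).2 * (vb * (e gc).2)
      rw [one_mul, hvbe, ← mul_assoc, hvb, one_mul]

/-- `C(y) ∩ C(s) ≤ W K` for every involution `s` of `W = ⟨t, v⟩`. -/
theorem mem_of_commute {v : G} (hv : v * v = 1) (hv1 : v ≠ 1) (hvt : Commute v t)
    (hne : v ≠ t) {y g s : G} (hy : y ∈ torusK t v) (hy1 : y ≠ 1) (hgy : Commute g y)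
    (hs : s ∈ fourW t v) (hs1 : s ≠ 1) (hgs : Commute g s) :
    ∃ r ∈ fourW t v, ∃ k ∈ torusK t v, g = r * k := by
  rcases H29.Walter.mem_closure_pair_cases h.mul_self hv hvt.symm hs with rfl | rfl | rfl | rfl
  · exact absurd rfl hs1
  · exact h.mem_of_commute_self hv hv1 hvt hne hy hy1 hgy hgs
  · have hx : orderOf s = 2 := orderOf_eq_prime (by rw [pow_two, hv]) hv1
    have hK : torusK s t = torusK t s := torusK_congr (by rw [Set.pair_comm])
    have hW : fourW s t = fourW t s := by rw [fourW, fourW, Set.pair_comm]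
    obtain ⟨r, hr, k, hk, e⟩ := (h.of_invol hx).mem_of_commute_self h.mul_self h.ne_one hvt.symm
      (Ne.symm hne) (y := y) (g := g) (hK ▸ hy) hy1 hgy hgs
    exact ⟨r, hW ▸ hr, k, hK ▸ hk, e⟩
  · have htv2 : t * v * (t * v) = 1 := by
      rw [mul_assoc, ← mul_assoc v t v, hvt.eq, mul_assoc t v v, hv, mul_one, h.mul_self]
    have hx : orderOf (t * v) = 2 := orderOf_eq_prime (by rw [pow_two, htv2]) hs1
    have hvt' : Commute t (t * v) := (Commute.refl t).mul_right hvt.symm
    have hne' : t ≠ t * v := fun e => hv1 (mul_left_cancel (e.symm.trans (mul_one t).symm))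
    have hc : centralizer ({t * v, t} : Set G) = centralizer ({t, v} : Set G) := by
      ext x
      rw [mem_centralizer_pair, mem_centralizer_pair]
      refine ⟨fun ⟨h1, h2⟩ => ⟨h2, ?_⟩, fun ⟨h1, h2⟩ => ⟨h1.mul_right h2, h1⟩⟩
      have := (h2.inv_right).mul_right h1
      rwa [inv_mul_cancel_left] at this
    have hW : fourW (t * v) t ≤ fourW t v := (closure_le _).2 (by
      rintro x (rfl | rfl)
      · exact mul_mem (subset_closure (Or.inl rfl)) (subset_closure (Or.inr rfl))
      · exact subset_closure (Or.inl rfl))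
    have h' := (h.of_invol hx).mem_of_commute_self h.mul_self h.ne_one hvt' hne'
      (y := y) (g := g) (by rwa [torusK_congr hc]) hy1 hgy hgs
    obtain ⟨r, hr, k, hk, e⟩ := h'
    exact ⟨r, hW hr, k, by rwa [torusK_congr hc] at hk, e⟩

/-- The configuration of `TorusLocal` inside `C(y)`. -/
theorem torusCfg {v : G} (hv : v * v = 1) (hv1 : v ≠ 1) (hvt : Commute v t) (hne : v ≠ t)
    {y : G} (hy : y ∈ torusK t v) (hy1 : y ≠ 1) :
    TorusCfg ((fourW t v).subgroupOf (centralizer ({y} : Set G)))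
      ((torusK t v).subgroupOf (centralizer ({y} : Set G))) := by
  obtain ⟨hcyc, hodd, hcen, -, -⟩ := h.torusK_facts hv hv1 hvt hne
  haveI := hcyc
  haveI hk := isKleinFour_fourW h.mul_self hv hvt.symm h.ne_one hv1 (Ne.symm hne)
  have hKc : ∀ a ∈ torusK t v, ∀ b ∈ torusK t v, Commute a b := by
    obtain ⟨g, hg⟩ := IsCyclic.exists_generator (α := ↥(torusK t v))
    intro a ha b hb
    obtain ⟨i, hi⟩ := mem_zpowers_iff.1 (hg ⟨a, ha⟩)
    obtain ⟨j, hj⟩ := mem_zpowers_iff.1 (hg ⟨b, hb⟩)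
    have hij : Commute (g ^ i) (g ^ j) := Commute.zpow_zpow (Commute.refl g) i j
    rw [hi, hj] at hij
    exact congrArg Subtype.val hij.eq
  have hWK : ∀ k ∈ torusK t v, ∀ s ∈ fourW t v, Commute k s := fun k hk s hs => by
    have hcomm : fourW t v ≤ centralizer ({k} : Set G) := (closure_le _).2 (by
      rintro x (rfl | rfl)
      · exact mem_centralizer_singleton_iff.2 (mem_centralizer_pair.1 (hcen hk)).1.eq.symm
      · exact mem_centralizer_singleton_iff.2 (mem_centralizer_pair.1 (hcen hk)).2.eq.symm)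
    exact (mem_centralizer_singleton_iff.1 (hcomm hs)).symm
  have hWy : fourW t v ≤ centralizer ({y} : Set G) := fun s hs =>
    mem_centralizer_singleton_iff.2 (hWK y hy s hs).eq.symm
  have hKy : torusK t v ≤ centralizer ({y} : Set G) := fun k hk =>
    mem_centralizer_singleton_iff.2 (hKc k hk y hy).eq
  let eW := subgroupOfEquivOfLe hWy
  refine ⟨⟨(Nat.card_congr eW.toEquiv).trans IsKleinFour.card_four,
      (Monoid.exponent_eq_of_mulEquiv eW).trans IsKleinFour.exponent_two⟩,
    by rwa [Nat.card_congr (subgroupOfEquivOfLe hKy).toEquiv],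
    fun k hk s hs => Subtype.ext (hWK k hk s hs).eq,
    fun a ha b hb => Subtype.ext (hKc a ha b hb).eq, fun s hs hs1 g hg => ?_⟩
  obtain ⟨r, hr, k, hk, e⟩ := h.mem_of_commute hv hv1 hvt hne hy hy1
    (mem_centralizer_singleton_iff.1 g.2) hs (fun e => hs1 (Subtype.ext e))
    (congrArg Subtype.val (mem_centralizer_singleton_iff.1 hg))
  rw [show g = ⟨r, hWy hr⟩ * ⟨k, hKy hk⟩ from Subtype.ext e]
  exact mul_mem (mem_sup_left hr) (mem_sup_right hk)

end Hyp

end Cfsg.Agent.H29.Ward
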