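import Cfsg.Agent.H26.KleinSylow
import Cfsg.Agent.Cores.Constrained
import Cfsg.Agent.Cores.PCore
import Cfsg.Agent.Coprime.Generation
import Cfsg.Agent.Fusion.Complements
import Cfsg.Agent.H29.Walter.PslFacts
import Cfsg.Agent.S3278
import Cfsg.Agent.S0494

/-!
# The centraliser of a torus element (abelian Sylow 2-subgroups, `C(t) = ⟨t⟩ × PSL₂(q)`)

For an element `y ≠ 1` of the odd part `K` of the torus centralising a four group `W`, the group
`M = C(y)` satisfies `C_M(s) = W × K` for every involution `s ∈ W`.  Then `M = W × K`, or `K` is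
normal in `M` with `M/K` of order 12 (and `W K` normal), or `M/K ≅ A₅` and `K` is central.
-/

set_option autoImplicit false
set_option linter.unusedSectionVars false
set_option linter.style.haveILetI false

namespace Cfsg.Agent.H29.Ward

open Subgroup Cfsg.Agent

universe u

variable {M : Type u} [Group M]

/-- A four group `W`, an abelian group `K` of odd order commuting with it, and `C(s) ≤ W K` for
every involution `s` of `W`. -/
structure TorusCfg (W K : Subgroup M) : Prop where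
  klein : IsKleinFour ↥W
  odd : Odd (Nat.card ↥K)
  comm : ∀ k ∈ K, ∀ s ∈ W, Commute k s
  abelian : ∀ a ∈ K, ∀ b ∈ K, Commute a b
  cent : ∀ s ∈ W, s ≠ 1 → centralizer ({s} : Set M) ≤ W ⊔ K

namespace TorusCfg

variable {W K : Subgroup M} (h : TorusCfg W K)
include h

theorem mul_self {s : M} (hs : s ∈ W) : s * s = 1 := by
  haveI := h.klein
  simpa using congrArg Subtype.val (IsKleinFour.mul_self (⟨s, hs⟩ : ↥W))

theorem commute_four {r s : M} (hr : r ∈ W) (hs : s ∈ W) : Commute r s := by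
  haveI := h.klein
  haveI : IsMulCommutative ↥W := IsKleinFour.isMulCommutative
  exact congrArg Subtype.val (mul_comm' (a := (⟨r, hr⟩ : ↥W)) (b := ⟨s, hs⟩))

theorem mem_sup {g : M} (hg : g ∈ W ⊔ K) : ∃ s ∈ W, ∃ k ∈ K, g = s * k := by
  have hle : W ≤ normalizer (K : Set M) := fun s hs => mem_normalizer_iff.2 fun k => by
    refine ⟨fun hk => ?_, fun hk => ?_⟩
    · rw [← (h.comm k hk s hs).eq, mul_inv_cancel_right]; exact hk
    · have e := h.comm _ hk s hs
      have e2 : s * k * s⁻¹ * s = s * (s * k * s⁻¹) := e.eq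
      have : k = s * k * s⁻¹ := mul_left_cancel (by rw [← e2, inv_mul_cancel_right])
      rw [this]; exact hk
  have h1 : g ∈ ((W ⊔ K : Subgroup M) : Set M) := hg
  rw [coe_mul_of_left_le_normalizer_right W K hle] at h1
  obtain ⟨s, hs, k, hk, e⟩ := h1
  exact ⟨s, hs, k, hk, e.symm⟩

theorem sup_le_centralizer {s : M} (hs : s ∈ W) : W ⊔ K ≤ centralizer ({s} : Set M) :=
  sup_le (fun _ hr => mem_centralizer_singleton_iff.2 (h.commute_four hr hs).eq)
    (fun k hk => mem_centralizer_singleton_iff.2 (h.comm k hk s hs).eq)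

variable [Finite M]

theorem mem_K_of_odd {g : M} (hg : g ∈ W ⊔ K) (ho : Odd (orderOf g)) : g ∈ K := by
  obtain ⟨s, hs, k, hk, rfl⟩ := h.mem_sup hg
  obtain ⟨j, hj⟩ := ho
  have h1 : s ^ orderOf (s * k) * k ^ orderOf (s * k) = 1 := by
    rw [← (h.comm k hk s hs).symm.mul_pow, pow_orderOf_eq_one]
  have h2 : s ^ orderOf (s * k) = s := by
    rw [hj, pow_succ, pow_mul, pow_two, h.mul_self hs, one_pow, one_mul]
  rw [h2] at h1
  have hsK : s ∈ K := by
    rw [eq_inv_of_mul_eq_one_left h1]; exact inv_mem (pow_mem hk _)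
  exact mul_mem hsK hk

theorem mem_W_of_two {g : M} (hg : g ∈ W ⊔ K) {n : ℕ} (hn : g ^ 2 ^ n = 1) : g ∈ W := by
  obtain ⟨s, hs, k, hk, rfl⟩ := h.mem_sup hg
  rcases n with _ | n
  · rw [pow_zero, pow_one] at hn; rw [hn]; exact one_mem _
  rw [(h.comm k hk s hs).symm.mul_pow, show s ^ 2 ^ (n + 1) = 1 by
    rw [pow_succ', pow_mul, pow_two, h.mul_self hs, one_pow], one_mul] at hn
  have : k = 1 := orderOf_eq_one_iff.1 (Nat.eq_one_of_dvd_coprimes
    (Nat.Coprime.pow_left (n + 1) (Nat.coprime_two_left.2 (Odd.of_dvd_nat h.odd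
      (orderOf_dvd_natCard K hk)))) (orderOf_dvd_of_pow_eq_one hn) dvd_rfl)
  rw [this, mul_one]; exact hs

theorem exists_invol : ∃ s ∈ W, s ≠ 1 := by
  haveI := h.klein
  haveI : Nontrivial ↥W := Finite.one_lt_card_iff_nontrivial.1 (by
    rw [IsKleinFour.card_four]; norm_num)
  obtain ⟨⟨s, hs⟩, hne⟩ := exists_ne (1 : ↥W)
  exact ⟨s, hs, fun e => hne (Subtype.ext e)⟩

theorem isPGroup : IsPGroup 2 ↥W := by
  haveI := h.klein
  exact IsPGroup.of_card (n := 2) (by rw [IsKleinFour.card_four]; rfl)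

theorem eq_of_pGroup_le {P : Subgroup M} (hP : IsPGroup 2 ↥P) (hWP : W ≤ P) : P = W := by
  haveI : Fact (Nat.Prime 2) := ⟨Nat.prime_two⟩
  haveI : Nontrivial ↥P := by
    obtain ⟨s, hs, hne⟩ := h.exists_invol
    exact ⟨⟨s, hWP hs⟩, 1, fun e => hne (congrArg Subtype.val e)⟩
  have htwo : ∀ x : ↥P, ∃ n : ℕ, (x : M) ^ 2 ^ n = 1 := fun x => by
    obtain ⟨n, hn⟩ := hP x; exact ⟨n, congrArg Subtype.val hn⟩
  haveI : Nontrivial ↥(center ↥P) := hP.center_nontrivial
  obtain ⟨⟨z, hz⟩, hz1⟩ := exists_ne (1 : ↥(center ↥P))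
  have hz1' : (z : M) ≠ 1 := fun e => hz1 (Subtype.ext (Subtype.ext e))
  have hzc : ∀ x : ↥P, Commute (x : M) (z : M) := fun x =>
    congrArg Subtype.val (mem_center_iff.1 hz x)
  obtain ⟨s, hs, hs1⟩ := h.exists_invol
  have hzW : (z : M) ∈ W := by
    obtain ⟨n, hn⟩ := htwo z
    exact h.mem_W_of_two
      (h.cent s hs hs1 (mem_centralizer_singleton_iff.2 (hzc ⟨s, hWP hs⟩).eq.symm)) hn
  refine le_antisymm (fun x hx => ?_) hWP
  obtain ⟨n, hn⟩ := htwo ⟨x, hx⟩
  exact h.mem_W_of_two (h.cent _ hzW hz1' (mem_centralizer_singleton_iff.2 (hzc ⟨x, hx⟩).eq)) hn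

theorem exists_sylow : ∃ P : Sylow 2 M, (P : Subgroup M) = W := by
  haveI : Fact (Nat.Prime 2) := ⟨Nat.prime_two⟩
  obtain ⟨P, hP⟩ := h.isPGroup.exists_le_sylow
  exact ⟨P, h.eq_of_pGroup_le P.2 hP⟩

theorem odd_index : Odd W.index := by
  haveI : Fact (Nat.Prime 2) := ⟨Nat.prime_two⟩
  obtain ⟨P, hP⟩ := h.exists_sylow
  exact Nat.odd_iff.2 (Nat.two_dvd_ne_zero.1 (hP ▸ P.not_dvd_index))

/-- Normal subgroups of odd order lie in `K`. -/
theorem le_of_normal_odd (N : Subgroup M) [N.Normal] (hN : Odd (Nat.card ↥N)) : N ≤ K := by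
  haveI := h.klein
  haveI : IsMulCommutative ↥W := IsKleinFour.isMulCommutative
  refine Coprime.le_of_centralizer_noncyclic_le (A := W) IsKleinFour.not_isCyclic
    (le_normalizer_of_normal) (by
      rw [IsKleinFour.card_four]; exact Nat.Coprime.pow_left 2 (Nat.coprime_two_left.2 hN))
    fun a ha ha1 x hx => ?_
  exact h.mem_K_of_odd (h.cent a ha ha1 hx.2)
    (Odd.of_dvd_nat hN (orderOf_dvd_natCard N hx.1))

/-- The centraliser of `W` is `W K`. -/
theorem centralizer_four : centralizer (W : Set M) = W ⊔ K := by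
  obtain ⟨s, hs, hs1⟩ := h.exists_invol
  refine le_antisymm ((centralizer_le (Set.singleton_subset_iff.2 hs)).trans (h.cent s hs hs1)) ?_
  intro g hg r hr
  exact ((mem_centralizer_singleton_iff.1 (h.sup_le_centralizer hr hg))).symm

theorem normal_K_of_normal [W.Normal] : K.Normal := by
  refine ⟨fun k hk g => ?_⟩
  have h1 : k ∈ centralizer (W : Set M) := by
    rw [h.centralizer_four]; exact mem_sup_right hk
  have h2 : g * k * g⁻¹ ∈ W ⊔ K := by
    rw [← h.centralizer_four]; exact Normal.conj_mem inferInstance k h1 g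
  refine h.mem_K_of_odd h2 ?_
  rw [H26.orderOf_conj_eq]
  exact Odd.of_dvd_nat h.odd (orderOf_dvd_natCard K hk)

/-- `|N(W) : W K|` is `1` or `3`. -/
theorem relIndex_normalizer :
    (W ⊔ K).relIndex (normalizer (W : Set M)) = 1 ∨ (W ⊔ K).relIndex (normalizer (W : Set M)) = 3 := by
  haveI := h.klein
  classical
  set Nn := normalizer (W : Set M) with hNn
  let V := {x : ↥W // x ≠ 1}
  have hcard : Nat.card V = 3 := H26.card_klein_involutions h.klein
  have hmem : ∀ n : ↥Nn, ∀ x : ↥W, (n : M) * x * (n : M)⁻¹ ∈ W := fun n x =>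
    (mem_normalizer_iff.1 n.2 x).1 x.2
  let f : ↥Nn → V → V := fun n v => ⟨⟨(n : M) * v.1 * (n : M)⁻¹, hmem n v.1⟩, fun e => v.2
    (Subtype.ext (conj_eq_one_iff.1 (congrArg Subtype.val e)))⟩
  have hf1 : ∀ v, f 1 v = v := fun v => Subtype.ext (Subtype.ext (by simp [f]))
  have hfm : ∀ a b v, f (a * b) v = f a (f b v) := fun a b v =>
    Subtype.ext (Subtype.ext (by simp [f, mul_assoc]))
  let φ : ↥Nn →* Equiv.Perm V := MonoidHom.mk' (fun n =>
      ⟨f n, f n⁻¹, fun v => by rw [← hfm, inv_mul_cancel, hf1],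
        fun v => by rw [← hfm, mul_inv_cancel, hf1]⟩)
    (fun a b => Equiv.ext fun v => hfm a b v)
  have hker : φ.ker = (W ⊔ K).subgroupOf Nn := by
    ext n
    rw [MonoidHom.mem_ker, mem_subgroupOf, ← h.centralizer_four]
    constructor
    · intro hn r hr
      by_cases hr1 : r = 1
      · simp [hr1]
      have hrv : (⟨r, hr⟩ : ↥W) ≠ 1 := fun e => hr1 (congrArg Subtype.val e)
      have h1 : f n ⟨⟨r, hr⟩, hrv⟩ = ⟨⟨r, hr⟩, hrv⟩ := by
        have h0 := congrArg (fun σ : Equiv.Perm V => σ ⟨⟨r, hr⟩, hrv⟩) hn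
        simpa [φ] using h0
      have h2 : (n : M) * r * (n : M)⁻¹ = r := congrArg (fun v : V => (v.1 : M)) h1
      exact (mul_inv_eq_iff_eq_mul.1 h2).symm
    · intro hn
      refine Equiv.ext fun v => Subtype.ext (Subtype.ext ?_)
      show (n : M) * v.1 * (n : M)⁻¹ = v.1
      rw [← hn _ v.1.2, mul_inv_cancel_right]
  have hdvd : (W ⊔ K).relIndex Nn ∣ 6 := by
    rw [relIndex, ← hker, index_ker]
    refine (card_subgroup_dvd_card _).trans ?_
    rw [Nat.card_perm, hcard]
    rfl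
  have hodd : Odd ((W ⊔ K).relIndex Nn) := Odd.of_dvd_nat h.odd_index
    ((relIndex_dvd_of_le_left Nn le_sup_left).trans
      (relIndex_dvd_index_of_le (le_normalizer : W ≤ Nn)))
  have hle : (W ⊔ K).relIndex Nn ≤ 6 := Nat.le_of_dvd (by norm_num) hdvd
  obtain ⟨j, hj⟩ := hodd
  rcases Nat.lt_or_ge ((W ⊔ K).relIndex Nn) 2 with h2 | h2
  · left; omega
  · right
    have : j = 1 ∨ j = 2 := by omega
    rcases this with rfl | rfl
    · omega
    · rw [hj] at hdvd; norm_num at hdvd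

/-- The configuration inside a subgroup containing `W`. -/
theorem restrict (N : Subgroup M) (hWN : W ≤ N) :
    TorusCfg (W.subgroupOf N) (K.subgroupOf N) := by
  haveI := h.klein
  refine ⟨?_, ?_, fun k hk s hs => Subtype.ext (h.comm k hk s hs).eq,
    fun a ha b hb => Subtype.ext (h.abelian a ha b hb).eq, fun s hs hs1 x hx => ?_⟩
  · let e := subgroupOfEquivOfLe hWN
    exact ⟨(Nat.card_congr e.toEquiv).trans IsKleinFour.card_four,
      (Monoid.exponent_eq_of_mulEquiv e).trans IsKleinFour.exponent_two⟩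
  · refine Odd.of_dvd_nat h.odd ?_
    have h1 := card_dvd_of_le (inf_le_left : K ⊓ N ≤ K)
    rwa [Nat.card_congr (subgroupOfEquivOfLe (inf_le_right : K ⊓ N ≤ N)).toEquiv.symm,
      inf_subgroupOf_right] at h1
  · have hx' : (x : M) ∈ centralizer ({(s : M)} : Set M) :=
      mem_centralizer_singleton_iff.2 (congrArg Subtype.val (mem_centralizer_singleton_iff.1 hx))
    obtain ⟨r, hr, k, hk, e⟩ := h.mem_sup (h.cent s hs (fun e => hs1 (Subtype.ext e)) hx')
    have hkN : k ∈ N := by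
      have : k = r⁻¹ * (x : M) := by rw [e, inv_mul_cancel_left]
      rw [this]; exact mul_mem (inv_mem (hWN hr)) x.2
    rw [show x = ⟨r, hWN hr⟩ * ⟨k, hkN⟩ from Subtype.ext e]
    exact mul_mem (mem_sup_left hr) (mem_sup_right hk)

/-- A four group that is normal in a normal subgroup is normal. -/
theorem normal_of_normal_in (N : Subgroup M) [N.Normal] (hWN : W ≤ N)
    (hn : (W.subgroupOf N).Normal) : W.Normal := by
  refine ⟨fun s hs g => ?_⟩
  have h2 : g * s * g⁻¹ ∈ N := Normal.conj_mem inferInstance s (hWN hs) g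
  let y : ↥N := ⟨g * s * g⁻¹, h2⟩
  have hy : IsPGroup 2 ↥(zpowers y) := by
    have hy2 : y ^ 2 = 1 := Subtype.ext (show (g * s * g⁻¹) ^ 2 = 1 by
      rw [conj_pow, pow_two, h.mul_self hs, mul_one, mul_inv_cancel])
    intro x
    refine ⟨1, Subtype.ext ?_⟩
    obtain ⟨i, hi⟩ := mem_zpowers_iff.1 x.2
    rw [pow_one, SubgroupClass.coe_pow, OneMemClass.coe_one, ← hi, ← zpow_natCast, ← zpow_mul,
      mul_comm, zpow_mul, zpow_natCast, hy2, one_zpow]
  haveI := hn
  have h3 : IsPGroup 2 ↥(zpowers y ⊔ W.subgroupOf N) :=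
    IsPGroup.to_sup_of_normal_right hy (h.restrict N hWN).isPGroup
  have h4 := (h.restrict N hWN).eq_of_pGroup_le h3 le_sup_right
  exact (h4.le (mem_sup_left (mem_zpowers y)) : y ∈ W.subgroupOf N)

theorem core_subgroup_eq_bot (hcore : pPrimeCore 2 M = ⊥) (N : Subgroup M) [N.Normal] :
    pPrimeCore 2 ↥N = ⊥ := by
  have := Cores.map_pPrimeCore_le_of_normal (p := 2) N
  rw [hcore, le_bot_iff, map_eq_bot_iff_of_injective _ N.subtype_injective] at this
  exact this

theorem odd_eq_bot (hcore : pPrimeCore 2 M = ⊥) (N : Subgroup M) [N.Normal]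
    (hN : Odd (Nat.card ↥N)) : N = ⊥ :=
  le_bot_iff.1 (hcore ▸ Cores.le_pPrimeCore (Nat.coprime_two_right.2 hN))

/-- With trivial core and `W` not normal, nontrivial normal subgroups contain `W`. -/
theorem le_of_normal (hcore : pPrimeCore 2 M = ⊥) (hnn : ¬ W.Normal) (N : Subgroup M) [N.Normal]
    (hN : N ≠ ⊥) : W ≤ N := by
  haveI := h.klein
  haveI : Fact (Nat.Prime 2) := ⟨Nat.prime_two⟩
  by_contra hWN
  have heven : 2 ∣ Nat.card ↥N := by
    by_contra hc
    exact hN (h.odd_eq_bot hcore N (Nat.odd_iff.2 (Nat.two_dvd_ne_zero.1 hc)))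
  obtain ⟨u, hu⟩ := exists_prime_orderOf_dvd_card' (G := ↥N) 2 heven
  obtain ⟨P, hP⟩ := h.exists_sylow
  have huM : orderOf (u : M) = 2 := by rw [Subgroup.orderOf_coe]; exact hu
  obtain ⟨Q, hQ⟩ := (IsPGroup.of_card (p := 2) (G := zpowers (u : M)) (n := 1) (by
    rw [Nat.card_zpowers, huM, pow_one])).exists_le_sylow
  obtain ⟨g, hg⟩ := MulAction.exists_smul_eq M Q P
  set s := g * (u : M) * g⁻¹ with hsdef
  have hsW : s ∈ W := by
    rw [← hP, ← hg, Sylow.coe_subgroup_smul]
    exact ⟨u, hQ (mem_zpowers _), rfl⟩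
  have hsN : s ∈ N := Normal.conj_mem inferInstance _ u.2 g
  have hso : orderOf s = 2 := (H26.orderOf_conj_eq _ _).trans huM
  -- the Sylow subgroup of `N` has order two
  obtain ⟨R, hR⟩ := (h.isPGroup.comap_of_injective N.subtype N.subtype_injective).exists_le_sylow
  have hsR : (⟨s, hsN⟩ : ↥N) ∈ (R : Subgroup ↥N) := hR hsW
  -- two-subgroups are commutative
  obtain ⟨Q', hQ'⟩ := (R.2.map N.subtype).exists_le_sylow
  obtain ⟨g', hg'⟩ := MulAction.exists_smul_eq M Q' P
  have hcm : ∀ x ∈ (Q' : Subgroup M), ∀ y ∈ (Q' : Subgroup M), Commute x y := by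
    intro x hx y hy
    have hx' : g' * x * g'⁻¹ ∈ W := by
      rw [← hP, ← hg', Sylow.coe_subgroup_smul]; exact ⟨x, hx, rfl⟩
    have hy' : g' * y * g'⁻¹ ∈ W := by
      rw [← hP, ← hg', Sylow.coe_subgroup_smul]; exact ⟨y, hy, rfl⟩
    have := congrArg (MulAut.conj g'⁻¹) (h.commute_four hx' hy').eq
    simpa [Commute, SemiconjBy, mul_assoc] using this
  have hRW : ∀ x : ↥N, x ∈ (R : Subgroup ↥N) → (x : M) ∈ W := by
    intro x hx
    obtain ⟨n, hn⟩ := R.2 ⟨x, hx⟩
    refine h.mem_W_of_two (n := n) (h.cent s hsW (H26.ne_one_of_orderOf_two hso)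
      (mem_centralizer_singleton_iff.2 (hcm _ (hQ' ⟨x, hx, rfl⟩) s (hQ' ⟨_, hsR, rfl⟩)).eq)) ?_
    exact congrArg (fun y : ↥(R : Subgroup ↥N) => ((y : ↥N) : M)) hn
  have htwo : ∀ x : ↥N, x ∈ (R : Subgroup ↥N) → x = 1 ∨ x = ⟨s, hsN⟩ := by
    intro x hx
    by_contra hne
    rw [not_or] at hne
    refine hWN fun r hr => ?_
    have hxW : (⟨(x : M), hRW x hx⟩ : ↥W) ≠ 1 := fun e =>
      hne.1 (Subtype.ext (congrArg (fun w : ↥W => (w : M)) e))
    have hsW1 : (⟨s, hsW⟩ : ↥W) ≠ 1 := fun e =>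
      H26.ne_one_of_orderOf_two hso (congrArg (fun w : ↥W => (w : M)) e)
    have hxs : (⟨(x : M), hRW x hx⟩ : ↥W) ≠ ⟨s, hsW⟩ := fun e =>
      hne.2 (Subtype.ext (congrArg (fun w : ↥W => (w : M)) e))
    by_cases h1 : r = 1
    · rw [h1]; exact one_mem N
    by_cases h2 : r = (x : M)
    · rw [h2]; exact x.2
    by_cases h3 : r = s
    · rw [h3]; exact hsN
    have h4 := IsKleinFour.eq_mul_of_ne_all (z := (⟨r, hr⟩ : ↥W)) hxW hsW1 hxs
      (fun e => h1 (congrArg (fun w : ↥W => (w : M)) e))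
      (fun e => h2 (congrArg (fun w : ↥W => (w : M)) e))
      (fun e => h3 (congrArg (fun w : ↥W => (w : M)) e))
    rw [show r = (x : M) * s from congrArg (fun w : ↥W => (w : M)) h4]
    exact mul_mem x.2 hsN
  have hs1 : (⟨s, hsN⟩ : ↥N) ≠ 1 := fun e =>
    H26.ne_one_of_orderOf_two hso (congrArg Subtype.val e)
  haveI : IsMulCommutative ↥(R : Subgroup ↥N) := ⟨⟨fun x y => Subtype.ext (Subtype.ext
    (h.commute_four (hRW _ x.2) (hRW _ y.2)).eq)⟩⟩
  have hcomp : HasNormalPComplement 2 ↥N := Fusion.hasNormalPComplement_of_abelian R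
    fun n hn _ x hx => by
    rcases htwo x hx with rfl | rfl
    · simp
    · rcases htwo _ ((mem_normalizer_iff.1 hn _).1 hsR) with e | e
      · exact absurd (conj_eq_one_iff.1 e) hs1
      · exact (mul_inv_eq_iff_eq_mul.1 e).symm
  obtain ⟨R', C, hC, hCR⟩ := hcomp
  haveI := hC
  have hCbot : C = ⊥ := by
    refine le_bot_iff.1 (h.core_subgroup_eq_bot hcore N ▸ Cores.le_pPrimeCore ?_)
    have h1 := R'.not_dvd_index
    rw [hCR.index_eq_card] at h1
    exact ((Nat.prime_two.coprime_iff_not_dvd).2 h1).symm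
  have hNp : IsPGroup 2 ↥(⊤ : Subgroup ↥N) := by
    rw [hCbot, isComplement'_bot_left] at hCR
    exact hCR ▸ R'.2
  have hRtop : (R : Subgroup ↥N) = ⊤ := (R.3 hNp le_top).symm
  have hsc : ∀ m : M, Commute m s := fun m => by
    rcases htwo ⟨m * s * m⁻¹, Normal.conj_mem inferInstance s hsN m⟩ (hRtop ▸ mem_top _) with e | e
    · exact absurd (conj_eq_one_iff.1 (congrArg Subtype.val e)) (H26.ne_one_of_orderOf_two hso)
    · exact mul_inv_eq_iff_eq_mul.1 (congrArg Subtype.val e)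
  refine hnn ⟨fun r hr m => ?_⟩
  have hm : m ∈ centralizer (W : Set M) := by
    rw [h.centralizer_four]
    exact h.cent s hsW (H26.ne_one_of_orderOf_two hso) (mem_centralizer_singleton_iff.2 (hsc m).eq)
  rw [← hm r hr, mul_inv_cancel_right]
  exact hr

theorem card_normalizer_of_bot (hK : K = ⊥) :
    Nat.card ↥(normalizer (W : Set M)) = 4 ∨ Nat.card ↥(normalizer (W : Set M)) = 12 := by
  haveI := h.klein
  have h1 := h.relIndex_normalizer
  rw [hK, sup_bot_eq] at h1
  have h2 := relIndex_mul_relIndex ⊥ W (normalizer (W : Set M)) bot_le le_normalizer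
  rw [relIndex_bot_left, relIndex_bot_left, IsKleinFour.card_four] at h2
  rcases h1 with e | e <;> rw [e] at h2 <;> omega

/-- The core free case. -/
theorem core_free (hcore : pPrimeCore 2 M = ⊥) :
    K = ⊥ ∧ ((W.Normal ∧ (Nat.card M = 4 ∨ Nat.card M = 12)) ∨
      Nonempty (M ≃* alternatingGroup (Fin 5))) := by
  haveI := h.klein
  haveI : Fact (Nat.Prime 2) := ⟨Nat.prime_two⟩
  haveI : Fact (Nat.Prime 5) := ⟨by norm_num⟩
  by_cases hn : W.Normal
  · haveI := hn
    haveI := h.normal_K_of_normal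
    have hK : K = ⊥ := h.odd_eq_bot hcore K h.odd
    refine ⟨hK, Or.inl ⟨hn, ?_⟩⟩
    have := h.card_normalizer_of_bot hK
    rwa [normalizer_eq_top, card_top] at this
  -- the smallest nontrivial normal subgroup
  set N : Subgroup M := sInf {R : Subgroup M | R.Normal ∧ R ≠ ⊥} with hNdef
  have hWN : W ≤ N := le_sInf fun R hR => @le_of_normal _ _ W K h _ hcore hn R hR.1 hR.2
  haveI hNn : N.Normal := ⟨fun x hx g => mem_sInf.2 fun R hR =>
    hR.1.conj_mem x (mem_sInf.1 hx R hR) g⟩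
  have hNmin : ∀ R : Subgroup M, R.Normal → R ≠ ⊥ → N ≤ R := fun R h1 h2 => sInf_le ⟨h1, h2⟩
  obtain ⟨s, hs, hs1⟩ := h.exists_invol
  have hNbot : N ≠ ⊥ := fun e => hs1 (mem_bot.1 (e ▸ hWN hs))
  have hnnN : ¬ (W.subgroupOf N).Normal := fun e => hn (h.normal_of_normal_in N hWN e)
  have hN' := h.restrict N hWN
  have hcoreN := h.core_subgroup_eq_bot hcore N
  haveI hsimp : IsSimpleGroup ↥N := by
    haveI : Nontrivial ↥N := (nontrivial_iff_ne_bot N).2 hNbot
    refine ⟨fun R hR => ?_⟩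
    by_cases hRb : R = ⊥
    · exact Or.inl hRb
    right
    set R0 : Subgroup ↥N := sInf {T : Subgroup ↥N | T.Normal ∧ T ≠ ⊥} with hR0
    have hW0 : W.subgroupOf N ≤ R0 :=
      le_sInf fun T hT => @le_of_normal _ _ _ _ hN' _ hcoreN hnnN T hT.1 hT.2
    have h0n : (R0.map N.subtype).Normal := by
      refine ⟨?_⟩
      rintro _ ⟨x, hx, rfl⟩ g
      refine ⟨MulAut.conjNormal g x, mem_sInf.2 fun T hT => ?_, MulAut.conjNormal_apply g x⟩
      have hTn : (T.comap (MulAut.conjNormal g : ↥N ≃* ↥N).toMonoidHom).Normal :=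
        hT.1.comap _
      have hTb : T.comap (MulAut.conjNormal g : ↥N ≃* ↥N).toMonoidHom ≠ ⊥ := fun e => hT.2 (by
        refine (eq_bot_iff_forall _).2 fun y hy => ?_
        obtain ⟨z, rfl⟩ := (MulAut.conjNormal g : ↥N ≃* ↥N).surjective y
        rw [show z = 1 from mem_bot.1 (e.le hy), map_one])
      exact mem_sInf.1 hx _ ⟨hTn, hTb⟩
    have h0b : R0.map N.subtype ≠ ⊥ := fun e => hs1 (mem_bot.1 (e.le ⟨⟨s, hWN hs⟩, hW0 hs, rfl⟩))
    refine top_le_iff.1 fun x _ => (sInf_le ⟨hR, hRb⟩ : R0 ≤ R) ?_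
    obtain ⟨y, hy, e⟩ := hNmin _ h0n h0b x.2
    rwa [show y = x from Subtype.ext e] at hy
  have hnc : ¬ ∀ x y : ↥N, x * y = y * x := fun e => hnnN ⟨fun w hw g => by
    rw [e g w, mul_inv_cancel_right]; exact hw⟩
  have hA5 : Nonempty (↥N ≃* alternatingGroup (Fin 5)) := by
    set x : ↥N := ⟨s, hWN hs⟩ with hx
    have hx2 : orderOf x = 2 :=
      orderOf_eq_prime (Subtype.ext (by rw [pow_two]; exact h.mul_self hs))
        fun e => hs1 (congrArg Subtype.val e)
    have hWx : W.subgroupOf N ≤ centralizer ({x} : Set ↥N) :=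
      le_sup_left.trans (hN'.sup_le_centralizer (s := x) hs)
    refine S3278.result x hx2 _ hWx hN'.klein (fun hd => ?_) ⟨fun w hw g => ?_⟩
    · have := hN'.odd_index
      exact (Nat.not_even_iff_odd.2 this) (even_iff_two_dvd.2
        (hd.trans (relIndex_dvd_index_of_le hWx)))
    · obtain ⟨r, hr, k, hk, e⟩ := hN'.mem_sup
        (hN'.cent x hs (fun e => hs1 (congrArg Subtype.val e)) g.2)
      rw [mem_subgroupOf] at hw ⊢
      push_cast
      rw [e, mul_inv_rev, mul_assoc r k, (hN'.comm k hk _ hw).eq,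
        show r * ((w : ↥N) * k) * (k⁻¹ * r⁻¹) = r * (w : ↥N) * r⁻¹ by group,
        (hN'.commute_four hr hw).eq, mul_inv_cancel_right]
      exact hw
  obtain ⟨e5⟩ := hA5
  have hcard : Nat.card ↥N = 60 := by
    rw [Nat.card_congr e5.toEquiv, nat_card_alternatingGroup, Nat.card_fin]; rfl
  have hL : H10.Walter.IsOddPSL ↥N := by
    refine ⟨ZMod 5, inferInstance, inferInstance, by simp, by simp, ?_⟩
    haveI : IsSimpleGroup (Matrix.ProjectiveSpecialLinearGroup (Fin 2) (ZMod 5)) :=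
      Linear.isSimpleGroup_PSL_fin le_rfl fun _ => by rw [Nat.card_zmod]; norm_num
    have h60 : Nat.card (Matrix.ProjectiveSpecialLinearGroup (Fin 2) (ZMod 5)) = 60 := by
      have := H56.CTwoAb.card_psl_two_odd (F := ZMod 5) (by simp)
      rw [ZMod.card] at this
      omega
    obtain ⟨e'⟩ := S0494.result h60
    exact ⟨e5.trans e'.symm⟩
  -- an involution partner of `s`
  obtain ⟨r, hr, hr1, hrs⟩ : ∃ r ∈ W, r ≠ 1 ∧ r ≠ s := by
    classical
    haveI : Fintype ↥W := Fintype.ofFinite _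
    obtain ⟨⟨r, hr⟩, hr'⟩ : ∃ r : ↥W, r ∉ ({1, ⟨s, hs⟩} : Finset ↥W) := by
      by_contra hc
      simp only [not_exists, not_not] at hc
      have : Fintype.card ↥W ≤ 2 := (Finset.card_le_card fun x _ => hc x).trans Finset.card_le_two
      rw [IsKleinFour.card_four'] at this
      omega
    simp only [Finset.mem_insert, Finset.mem_singleton, not_or] at hr'
    exact ⟨r, hr, fun e => hr'.1 (Subtype.ext e), fun e => hr'.2 (Subtype.ext e)⟩
  set a : ↥N := ⟨s, hWN hs⟩ with ha
  set b : ↥N := ⟨r, hWN hr⟩ with hb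
  have ha1 : a ≠ 1 := fun e => hs1 (congrArg Subtype.val e)
  have hb1 : b ≠ 1 := fun e => hr1 (congrArg Subtype.val e)
  have ha2 : a * a = 1 := Subtype.ext (h.mul_self hs)
  have hb2 : b * b = 1 := Subtype.ext (h.mul_self hr)
  have hab : Commute a b := Subtype.ext (h.commute_four hs hr).eq
  have hne : a ≠ b := fun e => hrs (congrArg Subtype.val e).symm
  have hKN : K ⊓ N = ⊥ := by
    refine (eq_bot_iff_forall _).2 fun k hk => ?_
    by_contra hk1
    refine hne (H29.Walter.eq_of_commute_odd hL (x := ⟨k, hk.2⟩) ?_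
      (fun e => hk1 (congrArg Subtype.val e)) ha1 ha2
      (Subtype.ext (h.comm k hk.1 s hs).symm.eq) hb1 hb2 (Subtype.ext (h.comm k hk.1 r hr).symm.eq))
    rw [← Subgroup.orderOf_coe]
    exact Odd.of_dvd_nat h.odd (orderOf_dvd_natCard K hk.1)
  have hCN : centralizer (N : Set M) = ⊥ := by
    by_contra hc
    exact hnc fun x y => Subtype.ext
      ((mem_centralizer_iff.1 (hNmin _ inferInstance hc y.2) x x.2))
  have hK : K = ⊥ := by
    refine (eq_bot_iff_forall _).2 fun k hk => ?_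
    set φ : MulAut ↥N := MulAut.conjNormal k with hφ
    have hφo : Odd (orderOf φ) :=
      Odd.of_dvd_nat (Odd.of_dvd_nat h.odd (orderOf_dvd_natCard K hk)) (orderOf_map_dvd _ k)
    have hφ1 : φ = 1 := by
      refine H29.Walter.eq_one_of_fixes_centralizer hL ha1 ha2 hb1 hb2 hab hne hφo fun c hc => ?_
      apply Subtype.ext
      rw [hφ, MulAut.conjNormal_apply]
      obtain ⟨w, hw, k', hk', e⟩ := h.mem_sup (h.cent s hs hs1
        (mem_centralizer_singleton_iff.2 (congrArg Subtype.val hc.eq : (c : M) * s = s * c)))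
      have hk'N : k' ∈ N := by
        have : k' = w⁻¹ * (c : M) := by rw [e, inv_mul_cancel_left]
        rw [this]; exact mul_mem (inv_mem (hWN hw)) c.2
      rw [show k' = 1 from mem_bot.1 (hKN.le ⟨hk', hk'N⟩), mul_one] at e
      rw [e, (h.comm k hk w hw).eq, mul_inv_cancel_right]
    have : k ∈ centralizer (N : Set M) := by
      intro x hx
      have h1 : k * x * k⁻¹ = x := by
        have := congrArg (fun ψ : MulAut ↥N => ((ψ ⟨x, hx⟩ : ↥N) : M)) hφ1
        simpa [hφ, MulAut.conjNormal_apply] using this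
      exact (mul_inv_eq_iff_eq_mul.1 h1).symm
    rw [hCN] at this
    exact mem_bot.1 this
  refine ⟨hK, Or.inr ?_⟩
  have hK' : K.subgroupOf N = ⊥ := by rw [hK, bot_subgroupOf]
  have hsupN : normalizer (W : Set M) ≤ N := by
    have h12 : Nat.card ↥(normalizer ((W.subgroupOf N : Subgroup ↥N) : Set ↥N)) = 12 := by
      refine (hN'.card_normalizer_of_bot hK').resolve_left fun h4 => ?_
      obtain ⟨P, hP⟩ := hN'.exists_sylow
      haveI := hN'.klein
      haveI : IsMulCommutative ↥(P : Subgroup ↥N) := hP ▸ IsKleinFour.isMulCommutative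
      have heq : W.subgroupOf N = normalizer ((W.subgroupOf N : Subgroup ↥N) : Set ↥N) :=
        eq_of_le_of_card_ge le_normalizer (by rw [h4, IsKleinFour.card_four])
      obtain ⟨R', C, hC, hCR⟩ := Fusion.hasNormalPComplement_of_abelian P fun g hg _ x hx => by
        replace hg : g ∈ normalizer ((P : Subgroup ↥N) : Set ↥N) := hg
        replace hx : x ∈ (P : Subgroup ↥N) := hx
        rw [hP] at hg hx
        rw [← heq] at hg
        exact (hN'.commute_four hx hg).eq
      rcases hsimp.eq_bot_or_eq_top_of_normal C hC with e | e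
      · rw [e, isComplement'_bot_left] at hCR
        have := hN'.eq_of_pGroup_le (P := ⊤) (hCR ▸ R'.2) le_top
        exact hnnN (this ▸ inferInstance)
      · have := R'.not_dvd_index
        rw [hCR.index_eq_card, e, card_top, hcard] at this
        exact this ⟨30, rfl⟩
    have hle : (normalizer ((W.subgroupOf N : Subgroup ↥N) : Set ↥N)).map N.subtype ≤
        normalizer (W : Set M) := by
      rintro _ ⟨x, hx, rfl⟩
      refine mem_normalizer_iff.2 fun w => ⟨fun hw => ?_, fun hw => ?_⟩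
      · exact (mem_normalizer_iff.1 hx ⟨w, hWN hw⟩).1 hw
      · have hwN : w ∈ N := by
          have h2 := hNn.conj_mem _ (hWN hw) (x : M)⁻¹
          simpa [mul_assoc] using h2
        exact (mem_normalizer_iff.1 hx ⟨w, hwN⟩).2 hw
    have hge : Nat.card ↥(normalizer (W : Set M)) ≤
        Nat.card ↥((normalizer ((W.subgroupOf N : Subgroup ↥N) : Set ↥N)).map N.subtype) := by
      rw [card_map_of_injective N.subtype_injective, h12]
      rcases h.card_normalizer_of_bot hK with e | e <;> omega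
    rw [← eq_of_le_of_card_ge hle hge]
    exact map_subtype_le _
  obtain ⟨P, hP⟩ := h.exists_sylow
  have htop : normalizer ((P : Subgroup M) : Set M) ⊔ N = ⊤ :=
    Sylow.normalizer_sup_eq_top' (N := N) P (hP ▸ hWN)
  have hNtop : N = ⊤ := by
    rw [hP, sup_eq_right.2 hsupN] at htop
    exact htop
  exact ⟨(topEquiv.symm.trans (MulEquiv.subgroupCongr hNtop.symm)).trans e5⟩

/-- The configuration modulo the core. -/
theorem quotient (O : Subgroup M) [O.Normal] (hO : Odd (Nat.card ↥O)) :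
    TorusCfg (W.map (QuotientGroup.mk' O)) (K.map (QuotientGroup.mk' O)) := by
  haveI : Fact (Nat.Prime 2) := ⟨Nat.prime_two⟩
  haveI := h.klein
  set f := QuotientGroup.mk' O with hf
  have hinj : ∀ s ∈ W, f s = 1 → s = 1 := fun s hs e => by
    have hsO : s ∈ O := (QuotientGroup.eq_one_iff s).1 e
    exact H29.Walter.coprime_two_of_odd (Odd.of_dvd_nat hO (orderOf_dvd_natCard O hsO))
      (h.mul_self hs)
  have hbij : Function.Injective (f.subgroupMap W) := by
    refine (injective_iff_map_eq_one _).2 fun x hx => Subtype.ext ?_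
    exact hinj x x.2 (congrArg Subtype.val hx)
  let e : ↥W ≃* ↥(W.map f) :=
    MulEquiv.ofBijective (f.subgroupMap W) ⟨hbij, f.subgroupMap_surjective W⟩
  refine ⟨⟨(Nat.card_congr e.toEquiv).symm.trans IsKleinFour.card_four,
    (Monoid.exponent_eq_of_mulEquiv e).symm.trans IsKleinFour.exponent_two⟩,
    Odd.of_dvd_nat h.odd (card_map_dvd K f), ?_, ?_, ?_⟩
  · rintro _ ⟨k, hk, rfl⟩ _ ⟨s, hs, rfl⟩; exact (h.comm k hk s hs).map f
  · rintro _ ⟨a, ha, rfl⟩ _ ⟨b, hb, rfl⟩; exact (h.abelian a ha b hb).map f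
  · rintro _ ⟨s, hs, rfl⟩ hs1
    have hs' : s ≠ 1 := fun e => hs1 (by rw [e, map_one])
    have hP : IsPGroup 2 ↥(zpowers s) := IsPGroup.of_card (n := 1) (by
      rw [Nat.card_zpowers, pow_one, orderOf_eq_prime (by rw [pow_two, h.mul_self hs]) hs'])
    intro z hz
    have h1 : z ∈ centralizer (((zpowers s).map f : Subgroup (M ⧸ O)) : Set (M ⧸ O)) := by
      rw [MonoidHom.map_zpowers]
      rintro y ⟨i, rfl⟩
      exact ((Commute.zpow_left (mem_centralizer_singleton_iff.1 hz).symm i).eq)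
    rw [← Cores.map_centralizer_of_coprime O (Nat.coprime_two_right.2 hO) hP] at h1
    obtain ⟨g, hg, rfl⟩ := h1
    rw [← Subgroup.map_sup]
    exact mem_map_of_mem f (h.cent s hs hs'
      ((centralizer_le (Set.singleton_subset_iff.2 (mem_zpowers s))) hg))

/-- **The centraliser of a torus element**: `M = W K`, or `K ⊴ M` and either `W K ⊴ M` with
`|M : K| = 12`, or `M/K ≅ A₅` and `K` is central. -/
theorem cases :
    W ⊔ K = ⊤ ∨
      (K.Normal ∧ ((W ⊔ K).Normal ∧ K.index = 12 ∨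
        (∃ _ : K.Normal, Nonempty (M ⧸ K ≃* alternatingGroup (Fin 5))) ∧ K ≤ center M)) := by
  haveI : Fact (Nat.Prime 2) := ⟨Nat.prime_two⟩
  set O := pPrimeCore 2 M with hOdef
  have hO : Odd (Nat.card ↥O) := Nat.coprime_two_right.1 Cores.coprime_card_pPrimeCore
  have hOK : O ≤ K := h.le_of_normal_odd O hO
  set f := QuotientGroup.mk' O with hf
  have hcore : pPrimeCore 2 (M ⧸ O) = ⊥ := Cores.pPrimeCore_quotient_pPrimeCore
  obtain ⟨hKbot, hcases⟩ := (h.quotient O hO).core_free hcore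
  have hKO : O = K := le_antisymm hOK (by
    rwa [Subgroup.map_eq_bot_iff, QuotientGroup.ker_mk'] at hKbot)
  have hfs : Function.Surjective f := QuotientGroup.mk'_surjective O
  have hcomap : (W.map f).comap f = W ⊔ K := by
    rw [comap_map_eq, QuotientGroup.ker_mk', hKO]
  have hidx : O.index = Nat.card (M ⧸ O) := index_eq_card O
  haveI hKn : K.Normal := hKO ▸ inferInstance
  rcases hcases with ⟨hWn, h4 | h12⟩ | ⟨⟨e⟩⟩
  · left
    haveI := h.klein
    haveI := (h.quotient O hO).klein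
    have : W.map f = ⊤ := eq_top_of_card_eq _ (by rw [IsKleinFour.card_four, h4])
    rw [← hcomap, this, comap_top]
  · refine Or.inr ⟨hKn, Or.inl ⟨?_, by rw [← hKO, hidx, h12]⟩⟩
    haveI := hWn
    rw [← hcomap]
    infer_instance
  · refine Or.inr ⟨hKn, Or.inr ⟨⟨hKn, ⟨(QuotientGroup.quotientMulEquivOfEq hKO.symm).trans e⟩⟩, ?_⟩⟩
    -- `K` is central
    haveI : Nontrivial (M ⧸ O) := e.toEquiv.nontrivial
    haveI : IsSimpleGroup (M ⧸ O) := IsSimpleGroup.isSimpleGroup_of_surjective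
      e.symm.toMonoidHom e.symm.surjective
    obtain ⟨s, hs, hs1⟩ := h.exists_invol
    have hne : (centralizer (K : Set M)).map f ≠ ⊥ := fun e0 => by
      rw [Subgroup.map_eq_bot_iff, QuotientGroup.ker_mk', hKO] at e0
      refine hs1 (H29.Walter.coprime_two_of_odd (Odd.of_dvd_nat h.odd (orderOf_dvd_natCard K
        (e0 fun k hk => (h.comm k hk s hs).eq))) (h.mul_self hs))
    have htop := (IsSimpleGroup.eq_bot_or_eq_top_of_normal _
      (Normal.map inferInstance f hfs)).resolve_left hne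
    intro k hk
    refine mem_center_iff.2 fun g => ?_
    obtain ⟨c, hc, hcg⟩ := htop.ge (mem_top (f g))
    have : c⁻¹ * g ∈ K := by rw [← hKO]; exact QuotientGroup.eq.1 hcg
    have h1 : Commute (c * (c⁻¹ * g)) k :=
      Commute.mul_left (show k * c = c * k from hc k hk).symm (h.abelian _ this _ hk)
    rw [mul_inv_cancel_left] at h1
    exact h1.eq

end TorusCfg

end Cfsg.Agent.H29.Ward
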